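import Groth.Agent.L20.SpaceLocal.SLift
import Groth.Agent.L23.InfCharts
import Groth.Agent.L23.Points
import Groth.Agent.S1488
import Mathlib.AlgebraicGeometry.Morphisms.Etale
import Mathlib.AlgebraicGeometry.Morphisms.UnderlyingMap
import Mathlib.AlgebraicGeometry.Limits
import Mathlib.RingTheory.RingHom.FaithfullyFlat

/-!
# Formal smoothness of morphisms of sheaves is etale local
-/

set_option autoImplicit false
set_option backward.isDefEq.respectTransparency.types false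
set_option linter.style.haveILetI false
set_option linter.unusedVariables false

universe u

open CategoryTheory CategoryTheory.Limits AlgebraicGeometry AlgSp Opposite Groth.L23

noncomputable section

namespace Groth.L20.SpaceLocal

theorem formallySmoothHom_of_etale_square {U U' V V' : Scheme.{u}} {h' : U' ⟶ V'} {h : U ⟶ V}
    (i : U' ⟶ U) (k : V' ⟶ V) [Etale i] [Etale k] (w : h' ≫ k = i ≫ h)
    (hh : MoreMor.IsFormallySmoothHom h) : MoreMor.IsFormallySmoothHom h' := by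
  intro A _ I hI a0 b e
  obtain ⟨l, hl₁, hl₂⟩ := hh A I hI (a0 ≫ i) (b ≫ k) (by
    rw [← Category.assoc, e, Category.assoc, w, Category.assoc])
  have hi : MoreMor.IsFormallySmoothHom i := ((Groth.Agent.S1488.result i).1 inferInstance).2
  obtain ⟨l', hl'₁, hl'₂⟩ := hi A I hI a0 l hl₁
  refine ⟨l', hl'₁, ?_⟩
  have hj := Groth.L23.isFirstOrder_specMap_quotient I hI
  haveI := hj.1.1
  refine FormallyUnramified.hom_ext _ (Groth.L23.isNilpotent_ker_of_firstOrder hj) k ?_ ?_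
  · rw [← Category.assoc, hl'₁, e]
  · rw [Category.assoc, w, ← Category.assoc, hl'₂, hl₂]

theorem formallySmooth_of_specMap {C D : Type u} [CommRing C] [CommRing D] (φ : D →+* C)
    (h : MoreMor.IsFormallySmoothHom (Spec.map (CommRingCat.ofHom φ))) :
    letI := φ.toAlgebra; Algebra.FormallySmooth D C := by
  letI := φ.toAlgebra
  refine Algebra.FormallySmooth.of_comp_surjective fun B _ _ I hI g => ?_
  obtain ⟨l, hl₁, hl₂⟩ := h B I hI (Spec.map (CommRingCat.ofHom g.toRingHom))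
    (Spec.map (CommRingCat.ofHom (algebraMap D B))) (by
      rw [← Spec.map_comp, ← Spec.map_comp, ← CommRingCat.ofHom_comp, ← CommRingCat.ofHom_comp]
      congr 2
      exact RingHom.ext fun s => (g.commutes s).symm)
  obtain ⟨L, rfl⟩ : ∃ L : C →+* B, Spec.map (CommRingCat.ofHom L) = l :=
    ⟨(Spec.preimage l).hom, Spec.map_preimage _⟩
  rw [← Spec.map_comp, ← CommRingCat.ofHom_comp] at hl₁ hl₂
  have hL : L.comp φ = algebraMap D B := congrArg CommRingCat.Hom.hom (Spec.map_injective hl₂)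
  refine ⟨{ L with commutes' := fun x => RingHom.congr_fun hL x }, AlgHom.ext fun c => ?_⟩
  exact congrArg (fun t => t.hom c) (Spec.map_injective hl₁)

variable {S : Scheme.{u}}

/-- A lifting problem has a solution if its top arrow passes through the image of a formally smooth
etale chart. -/
theorem exists_lift_of_chart {X Y : Sp S} {f : X ⟶ Y} {U V : Over S}
    {a : (yon S).obj U ⟶ X} {b : (yon S).obj V ⟶ Y} {h : U ⟶ V} (ha : RepWith @Etale a)
    (hb : RepWith @Etale b) (wc : a ≫ f = (yon S).map h ≫ b)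
    (hh : MoreMor.IsFormallySmoothHom h.left) (sq : InfSq f)
    (hs : ∀ y : sq.ptT.left, Points.ofPt sq.top y ∈ Set.range (Points.ofPt a)) : sq.HasLift := by
  classical
  obtain ⟨P, u₀, ρ, sP⟩ := Groth.L23.exists_isPullback_of_representable ha.1 sq.top
  haveI hρ : Etale ρ.left := repWith_prop ha sP
  haveI hρs : Surjective ρ.left := ⟨fun y => by
    obtain ⟨u, hu⟩ := hs y
    obtain ⟨v, -, hv⟩ := exists_point_of_isPullback sP (x := Points.ofScheme U u) (u := y)
      ((Points.ofPt_eq_map_ofScheme a u).symm.trans hu)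
    exact ⟨v, hv⟩⟩
  have hj := sq.firstOrder
  have hVx : ∀ x : P.left, ∃ (O : V.left.Opens) (O' : U.left.Opens), IsAffineOpen O ∧
      IsAffineOpen O' ∧ u₀.left x ∈ O' ∧ O' ≤ h.left ⁻¹ᵁ O := by
    intro x
    obtain ⟨_, ⟨O, hO, rfl⟩, hxO, -⟩ := V.left.isBasis_affineOpens.exists_subset_of_mem_open
      (Set.mem_univ (h.left (u₀.left x))) isOpen_univ
    obtain ⟨_, ⟨O', hO', rfl⟩, hxO', hle⟩ := U.left.isBasis_affineOpens.exists_subset_of_mem_open
      (show u₀.left x ∈ h.left ⁻¹ᵁ O from hxO) (h.left ⁻¹ᵁ O).isOpen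
    exact ⟨O, O', hO, hO', hxO', hle⟩
  choose Ov Ou hOv hOu hxO hle using hVx
  choose Wl Pl e m j₁ he haff sq₁ hrange using fun x : P.left =>
    Groth.L23.exists_local_etale_lift ((u₀.left ⁻¹ᵁ Ou x).ι ≫ ρ.left) sq.j.left hj.1 ⟨x, hxO x⟩
  haveI : CompactSpace sq.ptT'.left := inferInstanceAs (CompactSpace (Spec (CommRingCat.of sq.A)))
  obtain ⟨t, ht⟩ := isCompact_univ.elim_finite_subcover (fun x => Set.range (e x))
    (fun x => (e x).isOpenMap.isOpen_range) (fun y _ => by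
      haveI := hj.1.2
      obtain ⟨y0, rfl⟩ := sq.j.left.surjective y
      obtain ⟨x, rfl⟩ := ρ.left.surjective y0
      exact Set.mem_iUnion.2 ⟨x, hrange x⟩)
  let n := t.card
  let π : Fin n → P.left := fun i => (t.equivFin.symm i).1
  haveI : ∀ i, IsAffine (Wl (π i)) := fun i => haff _
  haveI : ∀ i, IsAffine (Ou (π i)).toScheme := fun i => hOu _
  haveI : ∀ i, IsAffine (Ov (π i)).toScheme := fun i => hOv _
  haveI : ∀ i, Etale (e (π i)) := fun i => he _
  let W : Scheme.{u} := ∐ fun i => Wl (π i)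
  let eT : W ⟶ sq.ptT'.left := Sigma.desc fun i => e (π i)
  have heT : Etale eT := IsZariskiLocalAtSource.sigmaDesc (P := @Etale) fun i => he _
  have heTs : Surjective eT := by
    refine Surjective.sigmaDesc_of_union_range_eq_univ (Set.eq_univ_of_forall fun y => ?_)
    obtain ⟨x, hx, hy⟩ := Set.mem_iUnion₂.1 (ht (Set.mem_univ y))
    refine Set.mem_iUnion.2 ⟨t.equivFin ⟨x, hx⟩, ?_⟩
    have hx' : π (t.equivFin ⟨x, hx⟩) = x := by simp [π]
    exact hx'.symm ▸ hy
  let Up : Scheme.{u} := ∐ fun i => (Ou (π i)).toScheme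
  let Vp : Scheme.{u} := ∐ fun i => (Ov (π i)).toScheme
  let h' : Up ⟶ Vp := Limits.Sigma.map fun i => h.left.resLE (Ov (π i)) (Ou (π i)) (hle _)
  let ai : Up ⟶ U.left := Sigma.desc fun i => (Ou (π i)).ι
  let bi : Vp ⟶ V.left := Sigma.desc fun i => (Ov (π i)).ι
  have hw : h' ≫ bi = ai ≫ h.left := Sigma.hom_ext _ _ fun i => by
    simp [h', ai, bi, Scheme.Hom.resLE_comp_ι]
  haveI : Etale ai := IsZariskiLocalAtSource.sigmaDesc (P := @Etale) fun i => inferInstance
  haveI : Etale bi := IsZariskiLocalAtSource.sigmaDesc (P := @Etale) fun i => inferInstance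
  let ai' : Spec Γ(Up, ⊤) ⟶ U.left := Up.isoSpec.inv ≫ ai
  let bi' : Spec Γ(Vp, ⊤) ⟶ V.left := Vp.isoSpec.inv ≫ bi
  let φ : Γ(Vp, ⊤) →+* Γ(Up, ⊤) := h'.appTop.hom
  have hw' : Spec.map (CommRingCat.ofHom φ) ≫ bi' = ai' ≫ h.left := by
    show Spec.map h'.appTop ≫ Vp.isoSpec.inv ≫ bi = (Up.isoSpec.inv ≫ ai) ≫ h.left
    rw [← Category.assoc, Scheme.isoSpec_inv_naturality, Category.assoc, hw, Category.assoc]
  haveI : Etale ai' := inferInstanceAs (Etale (Up.isoSpec.inv ≫ ai))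
  haveI : Etale bi' := inferInstanceAs (Etale (Vp.isoSpec.inv ≫ bi))
  have hφ : letI := φ.toAlgebra; Algebra.FormallySmooth Γ(Vp, ⊤) Γ(Up, ⊤) :=
    formallySmooth_of_specMap φ (formallySmoothHom_of_etale_square ai' bi' hw' hh)
  let vS : Spec Γ(Vp, ⊤) ⟶ S := bi' ≫ V.hom
  let bO : Over.mk vS ⟶ V := Over.homMk bi' rfl
  let aO : Over.mk (Spec.map (CommRingCat.ofHom φ) ≫ vS) ⟶ U := Over.homMk ai' (by
    show ai' ≫ U.hom = Spec.map (CommRingCat.ofHom φ) ≫ bi' ≫ V.hom
    rw [← Category.assoc, hw', Category.assoc ai']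
    exact congrArg (ai' ≫ ·) (Over.w h).symm)
  let 𝔖 : Setup f :=
    { A := sq.A
      I := sq.I
      sq_zero := sq.sq_zero
      str := sq.str
      top := sq.top
      bot := sq.bot
      comm := sq.comm
      C := Γ(Up, ⊤)
      D := Γ(Vp, ⊤)
      φ := φ
      vS := vS
      a := (yon S).map aO ≫ a
      b := (yon S).map bO ≫ b
      etale_a := (repWith_isMultiplicative (S := S) @Etale).comp_mem _ _
        ((repWith_yon_map_iff _ _).2 (inferInstanceAs (Etale ai'))) ha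
      etale_b := (repWith_isMultiplicative (S := S) @Etale).comp_mem _ _
        ((repWith_yon_map_iff _ _).2 (inferInstanceAs (Etale bi'))) hb
      chart := by
        rw [Category.assoc, wc, ← Functor.map_comp_assoc, ← Functor.map_comp_assoc]
        congr 2
        exact Over.OverMorphism.ext hw'.symm }
  let ew : Spec Γ(W, ⊤) ⟶ Spec (CommRingCat.of 𝔖.A) := W.isoSpec.inv ≫ eT
  obtain ⟨d, hd⟩ : ∃ d : 𝔖.A →+* Γ(W, ⊤), Spec.map (CommRingCat.ofHom d) = ew :=
    ⟨(Spec.preimage ew).hom, Spec.map_preimage _⟩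
  letI : Algebra 𝔖.A Γ(W, ⊤) := d.toAlgebra
  have hde : Etale (Spec.map (CommRingCat.ofHom (algebraMap 𝔖.A Γ(W, ⊤)))) := by
    show Etale (Spec.map (CommRingCat.ofHom d))
    rw [hd]
    exact inferInstanceAs (Etale (W.isoSpec.inv ≫ eT))
  have hds : Surjective (Spec.map (CommRingCat.ofHom (algebraMap 𝔖.A Γ(W, ⊤)))) := by
    show Surjective (Spec.map (CommRingCat.ofHom d))
    rw [hd]
    exact inferInstanceAs (Surjective (W.isoSpec.inv ≫ eT))
  haveI hff : Module.FaithfullyFlat 𝔖.A Γ(W, ⊤) := by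
    rw [← RingHom.faithfullyFlat_algebraMap_iff, RingHom.FaithfullyFlat.iff_flat_and_comap_surjective]
    refine ⟨(HasRingHomProperty.Spec_iff (P := @Flat)
      (φ := CommRingCat.ofHom (algebraMap 𝔖.A Γ(W, ⊤)))).1 ?_, fun x => hds.1 x⟩
    have := hde
    infer_instance
  let R0 : Type u := Γ(W, ⊤) ⧸ 𝔖.I.map (algebraMap 𝔖.A Γ(W, ⊤))
  let g : Spec (CommRingCat.of R0) ⟶ W :=
    Spec.map (CommRingCat.ofHom (Ideal.Quotient.mk _)) ≫ W.isoSpec.inv
  let τ : Spec (CommRingCat.of R0) ⟶ sq.ptT.left := (𝔖.toT0 R0).left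
  have hτ : τ ≫ sq.j.left = g ≫ eT := by
    show Spec.map (CommRingCat.ofHom (IsScalarTower.toAlgHom 𝔖.A 𝔖.A0 R0).toRingHom) ≫
      Spec.map (CommRingCat.ofHom (algebraMap 𝔖.A 𝔖.A0)) =
      (Spec.map (CommRingCat.ofHom (Ideal.Quotient.mk _)) ≫ W.isoSpec.inv) ≫ eT
    rw [Category.assoc]
    show _ = _ ≫ ew
    rw [← hd, ← Spec.map_comp, ← Spec.map_comp, ← CommRingCat.ofHom_comp,
      ← CommRingCat.ofHom_comp]
    congr 2
  let ι' : ∀ i, Wl (π i) ⟶ W := fun i => Sigma.ι (fun i => Wl (π i)) i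
  have hι : IsIso (Sigma.desc ι') := by
    have : Sigma.desc ι' = 𝟙 W := Sigma.hom_ext _ _ fun i =>
      (Sigma.ι_desc ι' i).trans (Category.comp_id _).symm
    rw [this]
    infer_instance
  haveI hq := FinitaryPreExtensive.isIso_sigmaDesc_fst ι' g hι
  let Q : Fin n → Scheme.{u} := fun i => pullback g (ι' i)
  let qq : (∐ Q) ⟶ Spec (CommRingCat.of R0) := Sigma.desc fun i => pullback.fst g (ι' i)
  haveI : IsIso qq := hq
  have hQ : ∀ i, (pullback.fst g (ι' i) ≫ τ) ≫ sq.j.left = pullback.snd g (ι' i) ≫ e (π i) := by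
    intro i
    rw [Category.assoc, hτ, ← Category.assoc, pullback.condition, Category.assoc]
    simp [ι', eT]
  let lQ : ∀ i, Q i ⟶ Pl (π i) := fun i => (sq₁ (π i)).lift _ _ (hQ i)
  let rQ : (∐ Q) ⟶ P.left := Sigma.desc fun i => lQ i ≫ m (π i) ≫ (u₀.left ⁻¹ᵁ Ou (π i)).ι
  let sQ : (∐ Q) ⟶ Up := Sigma.desc fun i =>
    lQ i ≫ m (π i) ≫ (u₀.left ∣_ Ou (π i)) ≫ Sigma.ι (fun i => (Ou (π i)).toScheme) i
  let r₀ : Spec (CommRingCat.of R0) ⟶ P.left := inv qq ≫ rQ
  let s₀ : Spec (CommRingCat.of R0) ⟶ Spec Γ(Up, ⊤) := inv qq ≫ sQ ≫ Up.isoSpec.hom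
  have hr : r₀ ≫ ρ.left = τ := by
    rw [Category.assoc, IsIso.inv_comp_eq]
    refine Sigma.hom_ext _ _ fun i => ?_
    simp only [rQ, qq, Sigma.ι_desc_assoc, Category.assoc]
    exact (sq₁ (π i)).lift_fst _ _ (hQ i)
  have hs : s₀ ≫ ai' = r₀ ≫ u₀.left := by
    show (inv qq ≫ sQ ≫ Up.isoSpec.hom) ≫ Up.isoSpec.inv ≫ ai = (inv qq ≫ rQ) ≫ u₀.left
    simp only [Category.assoc, Iso.hom_inv_id_assoc]
    congr 1
    refine Sigma.hom_ext _ _ fun i => ?_
    simp [rQ, sQ, ai]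
  let r : 𝔖.obj R0 ⟶ P := Over.homMk r₀ (by
    rw [← Over.w ρ, ← Category.assoc, hr]
    exact Over.w (𝔖.toT0 R0))
  have hrρ : r ≫ ρ = 𝔖.toT0 R0 := Over.OverMorphism.ext hr
  let σ : 𝔖.obj R0 ⟶ 𝔖.U := Over.homMk s₀ (by
    show s₀ ≫ Spec.map (CommRingCat.ofHom φ) ≫ bi' ≫ V.hom = _
    rw [← Category.assoc (Spec.map _), hw', Category.assoc ai',
      show h.left ≫ V.hom = U.hom from Over.w h, ← Category.assoc, hs,
      Category.assoc, show u₀.left ≫ U.hom = P.hom from Over.w u₀]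
    exact Over.w r)
  have hσ : 𝔖.IsPiece R0 σ := by
    show (yon S).map σ ≫ (yon S).map aO ≫ a = (yon S).map (𝔖.toT0 R0) ≫ 𝔖.top
    have e1 : σ ≫ aO = r ≫ u₀ := Over.OverMorphism.ext hs
    rw [← Functor.map_comp_assoc, e1, ← hrρ, Functor.map_comp, Functor.map_comp, Category.assoc,
      Category.assoc, sP.w]
  obtain ⟨L, hL₁, hL₂⟩ := (Cover.mk (𝔖 := 𝔖) Γ(W, ⊤) σ hσ).exists_lift hφ hde
  exact ⟨L, hL₁, hL₂⟩

/-- A morphism of sheaves with a chart by a formally smooth morphism is formally smooth. -/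
theorem formallySmoothMor_of_chart {X Y : Sp S} {f : X ⟶ Y} {U V : Over S}
    {a : (yon S).obj U ⟶ X} {b : (yon S).obj V ⟶ Y} {h : U ⟶ V} (ha : RepWith @Etale a)
    (has : RepWith @Surjective a) (hb : RepWith @Etale b) (wc : a ≫ f = (yon S).map h ≫ b)
    (hh : MoreMor.IsFormallySmoothHom h.left) : IsFormallySmoothMor f := fun sq =>
  exists_lift_of_chart ha hb wc hh sq fun y => surjective_ofPt has _

end Groth.L20.SpaceLocal
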