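import Mathlib.RingTheory.TensorProduct.IncludeLeftSubRight
import Mathlib.RingTheory.Flat.FaithfullyFlat.Basic
import Mathlib.RingTheory.Flat.FaithfullyFlat.Algebra

/-!
# The Amitsur complex in low degree and descent of modules
-/

set_option autoImplicit false
set_option backward.isDefEq.respectTransparency.types false
set_option linter.unusedSectionVars false

universe u

open TensorProduct

noncomputable section

namespace Groth.L20.SpaceLocal

variable (A B : Type u) [CommRing A] [CommRing B] [Algebra A B]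

/-- The first factor of the triple tensor product. -/
abbrev t1 : B →ₐ[A] B ⊗[A] (B ⊗[A] B) := Algebra.TensorProduct.includeLeft

/-- The second factor of the triple tensor product. -/
abbrev t2 : B →ₐ[A] B ⊗[A] (B ⊗[A] B) :=
  Algebra.TensorProduct.includeRight.comp Algebra.TensorProduct.includeLeft

/-- The third factor of the triple tensor product. -/
abbrev t3 : B →ₐ[A] B ⊗[A] (B ⊗[A] B) :=
  Algebra.TensorProduct.includeRight.comp Algebra.TensorProduct.includeRight

/-- The map to the triple product avoiding the first factor. -/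
abbrev e23 : B ⊗[A] B →ₐ[A] B ⊗[A] (B ⊗[A] B) := Algebra.TensorProduct.includeRight

/-- The map to the triple product avoiding the second factor. -/
abbrev e13 : B ⊗[A] B →ₐ[A] B ⊗[A] (B ⊗[A] B) :=
  Algebra.TensorProduct.lift (t1 A B) (t3 A B) fun _ _ => Commute.all _ _

/-- The map to the triple product avoiding the third factor. -/
abbrev e12 : B ⊗[A] B →ₐ[A] B ⊗[A] (B ⊗[A] B) :=
  Algebra.TensorProduct.lift (t1 A B) (t2 A B) fun _ _ => Commute.all _ _

/-- The degree zero differential. -/
def d0 : B →ₗ[A] B ⊗[A] B :=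
  (Algebra.TensorProduct.includeRight : B →ₐ[A] B ⊗[A] B).toLinearMap -
    (Algebra.TensorProduct.includeLeft : B →ₐ[A] B ⊗[A] B).toLinearMap

/-- The degree one differential. -/
def d1 : B ⊗[A] B →ₗ[A] B ⊗[A] (B ⊗[A] B) :=
  (e23 A B).toLinearMap - (e13 A B).toLinearMap + (e12 A B).toLinearMap

theorem d0_apply (y : B) : d0 A B y = (1 : B) ⊗ₜ[A] y - y ⊗ₜ[A] (1 : B) := rfl

theorem d1_tmul (x y : B) : d1 A B (x ⊗ₜ[A] y) =
    (1 : B) ⊗ₜ[A] (x ⊗ₜ[A] y) - x ⊗ₜ[A] ((1 : B) ⊗ₜ[A] y) + x ⊗ₜ[A] (y ⊗ₜ[A] (1 : B)) := by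
  simp [d1]

theorem d1_d0 (y : B) : d1 A B (d0 A B y) = 0 := by
  rw [d0_apply, map_sub, d1_tmul, d1_tmul]
  abel

/-- Multiplication on the first two factors. -/
def contract (M : Type u) [AddCommGroup M] [Module A M] : B ⊗[A] (B ⊗[A] M) →ₗ[A] B ⊗[A] M :=
  TensorProduct.map (LinearMap.mul' A B) LinearMap.id ∘ₗ (TensorProduct.assoc A B B M).symm.toLinearMap

theorem contract_tmul (M : Type u) [AddCommGroup M] [Module A M] (b b' : B) (m : M) :
    contract A B M (b ⊗ₜ[A] (b' ⊗ₜ[A] m)) = (b * b') ⊗ₜ[A] m := by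
  simp [contract]

theorem homotopy (w : B ⊗[A] (B ⊗[A] B)) :
    (d0 A B).lTensor B (contract A B B w) + contract A B (B ⊗[A] B) ((d1 A B).lTensor B w) = w := by
  induction w using TensorProduct.induction_on with
  | zero => simp
  | add a b ha hb =>
    simp only [map_add]
    rw [add_add_add_comm, ha, hb]
  | tmul b z =>
    induction z using TensorProduct.induction_on with
    | zero => simp
    | add a c ha hc =>
      simp only [TensorProduct.tmul_add, map_add]
      rw [add_add_add_comm, ha, hc]
    | tmul x y =>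
      rw [contract_tmul, LinearMap.lTensor_tmul, LinearMap.lTensor_tmul, d0_apply, d1_tmul]
      simp only [TensorProduct.tmul_sub, TensorProduct.tmul_add, map_sub, map_add, contract_tmul,
        mul_one]
      abel

variable [Module.FaithfullyFlat A B]

/-- The Amitsur complex is exact in degree one. -/
theorem exists_d0_eq (z : B ⊗[A] B) (hz : d1 A B z = 0) : ∃ y : B, d0 A B y = z := by
  refine (Module.FaithfullyFlat.lTensor_reflects_exact A B (d0 A B) (d1 A B) (fun w => ?_) z).1 hz
  refine ⟨fun h => ⟨contract A B B w, ?_⟩, ?_⟩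
  · have := homotopy A B w
    rwa [h, map_zero, add_zero] at this
  · rintro ⟨v, rfl⟩
    rw [← LinearMap.comp_apply, ← LinearMap.lTensor_comp,
      show d1 A B ∘ₗ d0 A B = 0 from LinearMap.ext (d1_d0 A B), LinearMap.lTensor_zero,
      LinearMap.zero_apply]

/-- The Amitsur complex is exact in degree zero. -/
theorem exists_algebraMap_eq (y : B) (hy : d0 A B y = 0) : ∃ c : A, algebraMap A B c = y := by
  have h := (Algebra.IsEffective.of_faithfullyFlat A B) y
  refine h.1 ?_
  rw [Algebra.TensorProduct.includeLeftSubRight_apply, ← neg_sub, ← d0_apply, hy, neg_zero]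

/-!
### Descent of modules along a cover given by a transition map
-/

section Descent

variable {A B} {N N2 : Type u} [AddCommGroup N] [Module A N] [Module B N] [IsScalarTower A B N]
  [AddCommGroup N2] [Module A N2] [Module (B ⊗[A] B) N2] [IsScalarTower A (B ⊗[A] B) N2]
  (r₁ r₂ : N →ₗ[A] N2)

/-- The descended module. -/
def descended : Submodule A N := LinearMap.ker (r₁ - r₂)

theorem r_eq (p : descended r₁ r₂) : r₁ p.1 = r₂ p.1 := sub_eq_zero.1 p.2

/-- The comparison map out of the base change of the descended module. -/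
def comparison : B ⊗[A] descended r₁ r₂ →ₗ[B] N :=
  LinearMap.liftBaseChange B (descended r₁ r₂).subtype

/-- The extension of the second restriction. -/
def extend2 : B ⊗[A] N →ₗ[A] N2 :=
  TensorProduct.lift (LinearMap.mk₂ A (fun b p => (b ⊗ₜ[A] (1 : B)) • r₂ p)
    (fun b b' p => by rw [TensorProduct.add_tmul, add_smul])
    (fun c b p => by rw [← TensorProduct.smul_tmul', smul_assoc])
    (fun b p p' => by rw [map_add, smul_add])
    (fun c b p => by rw [map_smul, smul_comm]))

theorem extend2_tmul (b : B) (p : N) : extend2 r₂ (b ⊗ₜ[A] p) = (b ⊗ₜ[A] (1 : B)) • r₂ p := rfl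

theorem comparison_bijective (h₁ : ∀ (b : B) (p : N), r₁ (b • p) = (b ⊗ₜ[A] (1 : B)) • r₁ p)
    (hinj : Function.Injective r₁) (hφ : Function.Bijective (extend2 (A := A) (B := B) r₂))
    (hcoc : ∀ (p : N) (e : B ⊗[A] N), extend2 (A := A) (B := B) r₂ e = r₁ p → (r₁ - r₂).lTensor B e = 0) :
    Function.Bijective (comparison (A := A) (B := B) r₁ r₂) := by
  let incl : B ⊗[A] descended r₁ r₂ →ₗ[A] B ⊗[A] N := (descended r₁ r₂).subtype.lTensor B
  have hincl : Function.Injective incl :=
    Module.Flat.lTensor_preserves_injective_linearMap _ (Submodule.injective_subtype _)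
  have hexact : Function.Exact incl ((r₁ - r₂).lTensor B) :=
    Module.Flat.lTensor_exact B (LinearMap.exact_subtype_ker_map _)
  have key : ∀ x, extend2 (A := A) (B := B) r₂ (incl x) = r₁ (comparison (A := A) (B := B) r₁ r₂ x) := by
    intro x
    induction x using TensorProduct.induction_on with
    | zero => simp
    | add a c ha hc => simp only [map_add, ha, hc]
    | tmul b p =>
      show extend2 (A := A) (B := B) r₂ (b ⊗ₜ[A] (p : N)) = r₁ (comparison (A := A) (B := B) r₁ r₂ (b ⊗ₜ[A] p))
      rw [extend2_tmul, comparison, LinearMap.liftBaseChange_tmul, h₁, ← r_eq]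
      rfl
  refine ⟨fun x y h => hincl (hφ.1 ?_), fun p => ?_⟩
  · rw [key, key, h]
  · obtain ⟨e, he⟩ := hφ.2 (r₁ p)
    obtain ⟨x, rfl⟩ := (hexact e).1 (hcoc p e he)
    exact ⟨x, hinj ((key x).symm.trans he)⟩

end Descent

end Groth.L20.SpaceLocal
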