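import Groth.Agent.L20.SmoothLocal.RingProp
import Groth.Agent.L23.FpqcBase
import Mathlib.AlgebraicGeometry.Morphisms.LocalFlatDescent

/-!
# Formal smoothness is etale local and fpqc local on the base
-/

set_option autoImplicit false
set_option backward.isDefEq.respectTransparency.types false
set_option linter.style.haveILetI false

universe u

open CategoryTheory CategoryTheory.Limits AlgebraicGeometry AlgSp Groth.L20.SmoothLocal

noncomputable section

namespace Groth.L20.SpaceLocal

instance stable_formallySmoothHom :
    MorphismProperty.IsStableUnderBaseChange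
      (@MoreMor.IsFormallySmoothHom : MorphismProperty Scheme.{u}) :=
  HasRingHomProperty.isStableUnderBaseChange RingHom.FormallySmooth.isStableUnderBaseChange

instance descends_formallySmoothHom : MorphismProperty.DescendsAlong
    (@MoreMor.IsFormallySmoothHom : MorphismProperty Scheme.{u})
    (@Surjective ⊓ @Flat ⊓ @QuasiCompact) :=
  HasRingHomProperty.descendsAlong_flat codescendsAlong_formallySmooth

theorem formallySmoothHom_source {X' X Y : Scheme.{u}} (χ : X' ⟶ X) (g : X ⟶ Y) (he : Etale χ)
    (hs : Surjective χ) (h : MoreMor.IsFormallySmoothHom (χ ≫ g)) :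
    MoreMor.IsFormallySmoothHom g := by
  let V : Over Y := Over.mk (𝟙 Y)
  let U : Over Y := Over.mk g
  let U' : Over Y := Over.mk (χ ≫ g)
  let c : U' ⟶ U := Over.homMk χ rfl
  let k : U ⟶ V := Over.homMk g (Category.comp_id g)
  let k' : U' ⟶ V := Over.homMk (χ ≫ g) (Category.comp_id _)
  refine Groth.L23.formallySmoothHom_of_mor k (formallySmoothMor_of_chart
    (a := (yon Y).map c) (b := 𝟙 _) (h := k') ((repWith_yon_map_iff _ _).2 he)
    ((repWith_yon_map_iff _ _).2 hs) (repWith_id _ _) ?_ h)
  rw [Category.comp_id, ← Functor.map_comp]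
  congr 1

theorem etLocal_formallySmoothHom :
    Groth.L23.EtLocal (@MoreMor.IsFormallySmoothHom : MorphismProperty Scheme.{u}) where
  stable := inferInstance
  comp := ⟨fun _ _ hf hg => isFormallySmoothHom_comp hf hg⟩
  etale f hf := isFormallySmoothHom_of_etale f
  source := formallySmoothHom_source
  target := Groth.L23.isLocalAtTarget_fppf _

end Groth.L20.SpaceLocal
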