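import Groth.Agent.L20.SpaceLocal.SUniv
import Mathlib.Algebra.Module.Torsion.Basic

/-!
# Differences of lifts along a square-zero extension
-/

set_option autoImplicit false
set_option backward.isDefEq.respectTransparency.types false
set_option linter.style.haveILetI false
set_option linter.unusedVariables false
set_option linter.unusedSectionVars false

universe u

open CategoryTheory CategoryTheory.Limits AlgebraicGeometry AlgSp Opposite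
open Groth.L20.SmoothLocal (Triv)

noncomputable section

namespace Groth.L20.SpaceLocal

variable {S : Scheme.{u}} {X Y : Sp S} {f : X ⟶ Y}

namespace Setup

variable (𝔖 : Setup f) (R : Type u) [CommRing R] [Algebra 𝔖.A R]

/-- The extended ideal. -/
abbrev ker : Ideal R := 𝔖.I.map (algebraMap 𝔖.A R)

theorem mul_eq_zero {x y : R} (hx : x ∈ 𝔖.ker R) (hy : y ∈ 𝔖.ker R) : x * y = 0 := by
  have h : x * y ∈ 𝔖.ker R ^ 2 := by rw [pow_two]; exact Ideal.mul_mem_mul hx hy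
  rw [← Ideal.map_pow, 𝔖.sq_zero, Ideal.map_bot] at h
  exact h

/-- The reduction. -/
abbrev red : R →ₐ[𝔖.A] R ⧸ 𝔖.ker R := Ideal.Quotient.mkₐ 𝔖.A _

theorem red_nil (x : R) (hx : 𝔖.red R x = 0) : IsNilpotent x :=
  ⟨2, by
    have h : x ∈ 𝔖.ker R := Ideal.Quotient.eq_zero_iff_mem.1 hx
    rw [pow_two]
    exact 𝔖.mul_eq_zero R h h⟩

/-- The kernel of the reduction as a module over the reduced ring. -/
def K : Type u := ↥(𝔖.ker R)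

instance instAddCommGroupK : AddCommGroup (𝔖.K R) := inferInstanceAs (AddCommGroup ↥(𝔖.ker R))

instance instModuleSelfK : Module R (𝔖.K R) := inferInstanceAs (Module R ↥(𝔖.ker R))

theorem isTorsion_K : Module.IsTorsionBySet R (𝔖.K R) (𝔖.ker R) := fun k x =>
  Subtype.ext (𝔖.mul_eq_zero R x.2 k.2)

instance instModuleRedK : Module (R ⧸ 𝔖.ker R) (𝔖.K R) := (𝔖.isTorsion_K R).module

instance instModuleBaseK : Module 𝔖.A0 (𝔖.K R) :=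
  Module.compHom _ (algebraMap 𝔖.A0 (R ⧸ 𝔖.ker R))

instance instTowerK : IsScalarTower 𝔖.A0 (R ⧸ 𝔖.ker R) (𝔖.K R) :=
  IsScalarTower.of_algebraMap_smul fun _ _ => rfl

/-- The inclusion of the kernel. -/
def incl : 𝔖.K R →+ R := (Submodule.subtype (𝔖.ker R)).toAddMonoidHom

variable {R}

/-- An element of the kernel. -/
def mkK (x : R) (h : x ∈ 𝔖.ker R) : 𝔖.K R := ⟨x, h⟩

theorem incl_mkK (x : R) (h : x ∈ 𝔖.ker R) : 𝔖.incl R (𝔖.mkK x h) = x := rfl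

theorem incl_injective : Function.Injective (𝔖.incl R) := Subtype.val_injective

theorem incl_mem (k : 𝔖.K R) : 𝔖.incl R k ∈ 𝔖.ker R := k.2

theorem incl_smul (r : R) (k : 𝔖.K R) :
    𝔖.incl R ((𝔖.red R r) • k) = r * 𝔖.incl R k := rfl

theorem mul_incl {r r' : R} (h : 𝔖.red R r = 𝔖.red R r') (k : 𝔖.K R) :
    r * 𝔖.incl R k = r' * 𝔖.incl R k := by rw [← incl_smul, h, incl_smul]

theorem incl_smul_base (z : 𝔖.A) (k : 𝔖.K R) :
    𝔖.incl R ((Ideal.Quotient.mk 𝔖.I z) • k) = algebraMap 𝔖.A R z * 𝔖.incl R k := rfl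

variable {R' : Type u} [CommRing R'] [Algebra 𝔖.A R']

theorem map_mem (g : R →ₐ[𝔖.A] R') {x : R} (hx : x ∈ 𝔖.ker R) : g x ∈ 𝔖.ker R' := by
  have e : (𝔖.ker R).map g.toRingHom = 𝔖.ker R' := by
    rw [Ideal.map_map]
    exact congrArg (fun h => 𝔖.I.map h) g.comp_algebraMap
  rw [← e]
  exact Ideal.mem_map_of_mem _ hx

/-- Functoriality of the reduction. -/
def redMap (g : R →ₐ[𝔖.A] R') : R ⧸ 𝔖.ker R →ₐ[𝔖.A] R' ⧸ 𝔖.ker R' :=
  Ideal.quotientMapₐ _ g fun _ hx => 𝔖.map_mem g hx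

theorem redMap_red (g : R →ₐ[𝔖.A] R') (x : R) : 𝔖.redMap g (𝔖.red R x) = 𝔖.red R' (g x) := rfl

theorem red_comp (g : R →ₐ[𝔖.A] R') : (𝔖.red R').comp g = (𝔖.redMap g).comp (𝔖.red R) := rfl

/-- Functoriality of the kernel. -/
def kMap (g : R →ₐ[𝔖.A] R') : 𝔖.K R →ₗ[𝔖.A0] 𝔖.K R' where
  toFun k := 𝔖.mkK (g (𝔖.incl R k)) (𝔖.map_mem g (𝔖.incl_mem k))
  map_add' k k' := 𝔖.incl_injective (by
    show g (𝔖.incl R (k + k')) = _
    rw [map_add, map_add, map_add]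
    rfl)
  map_smul' z k := 𝔖.incl_injective (by
    obtain ⟨z, rfl⟩ := Ideal.Quotient.mk_surjective z
    show g (𝔖.incl R (Ideal.Quotient.mk 𝔖.I z • k)) = _
    rw [RingHom.id_apply, incl_smul_base, incl_smul_base, map_mul, g.commutes]
    rfl)

theorem incl_kMap (g : R →ₐ[𝔖.A] R') (k : 𝔖.K R) :
    𝔖.incl R' (𝔖.kMap g k) = g (𝔖.incl R k) := rfl

theorem kMap_smul (g : R →ₐ[𝔖.A] R') (r : R ⧸ 𝔖.ker R) (k : 𝔖.K R) :
    𝔖.kMap g (r • k) = 𝔖.redMap g r • 𝔖.kMap g k := by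
  obtain ⟨r, rfl⟩ := Ideal.Quotient.mk_surjective r
  refine 𝔖.incl_injective ?_
  show g (𝔖.incl R (𝔖.red R r • k)) = 𝔖.incl R' (𝔖.red R' (g r) • 𝔖.kMap g k)
  rw [incl_smul, incl_smul, map_mul, incl_kMap]

/-!
### Lifts
-/

/-- Lifts of the top arrow to an algebra over the base. -/
structure IsLift (l : (yon S).obj (𝔖.obj R) ⟶ X) : Prop where
  red_hom : (yon S).map (𝔖.mapT (𝔖.red R)) ≫ l = 𝔖.topR (R ⧸ 𝔖.ker R)
  hom_comp : l ≫ f = 𝔖.botR R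

variable {𝔖} {l l' l'' : (yon S).obj (𝔖.obj R) ⟶ X} (hl : 𝔖.IsLift l) (hl' : 𝔖.IsLift l')
  (hl'' : 𝔖.IsLift l'')

include hl in
theorem IsLift.map (g : R →ₐ[𝔖.A] R') : 𝔖.IsLift ((yon S).map (𝔖.mapT g) ≫ l) := by
  refine ⟨?_, by rw [Category.assoc, hl.hom_comp, map_botR]⟩
  rw [← Functor.map_comp_assoc, ← mapT_comp, red_comp, mapT_comp, Functor.map_comp_assoc,
    hl.red_hom, map_topR]

section Chart

variable {σ : 𝔖.obj (R ⧸ 𝔖.ker R) ⟶ 𝔖.U} (hσ : 𝔖.IsPiece (R ⧸ 𝔖.ker R) σ)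

include hl hσ in
theorem IsLift.existsUnique_chart : ∃! u : 𝔖.obj R ⟶ 𝔖.U,
    𝔖.mapT (𝔖.red R) ≫ u = σ ∧ (yon S).map u ≫ 𝔖.a = l :=
  𝔖.existsUnique_chartLift _ Ideal.Quotient.mk_surjective (𝔖.red_nil R) σ l
    (hσ.trans hl.red_hom.symm)

/-- The lift to the chart. -/
def IsLift.chart : 𝔖.obj R ⟶ 𝔖.U := (hl.existsUnique_chart hσ).choose

theorem IsLift.chart_red : 𝔖.mapT (𝔖.red R) ≫ hl.chart hσ = σ :=
  (hl.existsUnique_chart hσ).choose_spec.1.1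

theorem IsLift.chart_a : (yon S).map (hl.chart hσ) ≫ 𝔖.a = l :=
  (hl.existsUnique_chart hσ).choose_spec.1.2

theorem IsLift.chart_unique (u : 𝔖.obj R ⟶ 𝔖.U) (h₁ : 𝔖.mapT (𝔖.red R) ≫ u = σ)
    (h₂ : (yon S).map u ≫ 𝔖.a = l) : hl.chart hσ = u :=
  ((hl.existsUnique_chart hσ).choose_spec.2 u ⟨h₁, h₂⟩).symm

theorem IsLift.red_ringOf (c : 𝔖.C) :
    𝔖.red R (𝔖.ringOf (hl.chart hσ) c) = 𝔖.ringOf σ c := by
  have e := congrArg 𝔖.ringOf (hl.chart_red hσ)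
  rw [ringOf_mapT] at e
  exact RingHom.congr_fun e c

theorem IsLift.chart_map (g : R →ₐ[𝔖.A] R') :
    (hl.map g).chart (isPiece_map hσ (𝔖.redMap g)) = 𝔖.mapT g ≫ hl.chart hσ := by
  refine IsLift.chart_unique _ _ _ ?_ ?_
  · rw [← Category.assoc, ← mapT_comp, red_comp, mapT_comp, Category.assoc, hl.chart_red hσ]
  · rw [Functor.map_comp, Category.assoc, hl.chart_a hσ]

theorem IsLift.chart_h : hl.chart hσ ≫ 𝔖.h = hl'.chart hσ ≫ 𝔖.h := by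
  refine 𝔖.ext_target _ Ideal.Quotient.mk_surjective (𝔖.red_nil R) ?_ ?_
  · rw [← Category.assoc, hl.chart_red hσ, ← Category.assoc, hl'.chart_red hσ]
  · rw [← map_comp_f, ← map_comp_f, hl.chart_a hσ, hl'.chart_a hσ, hl.hom_comp, hl'.hom_comp]

theorem IsLift.ringOf_base (s : 𝔖.D) :
    𝔖.ringOf (hl.chart hσ) (𝔖.φ s) = 𝔖.ringOf (hl'.chart hσ) (𝔖.φ s) := by
  have e : Spec.map (CommRingCat.ofHom ((𝔖.ringOf (hl.chart hσ)).comp 𝔖.φ)) =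
      Spec.map (CommRingCat.ofHom ((𝔖.ringOf (hl'.chart hσ)).comp 𝔖.φ)) := by
    simp only [CommRingCat.ofHom_comp, Spec.map_comp, specMap_ringOf]
    exact congr($(hl.chart_h hl' hσ).left)
  exact congrArg (fun g => g.hom s) (Spec.map_injective e)

theorem sub_mem_ker (c : 𝔖.C) :
    𝔖.ringOf (hl'.chart hσ) c - 𝔖.ringOf (hl.chart hσ) c ∈ 𝔖.ker R := by
  refine Ideal.Quotient.eq.1 ?_
  exact (hl'.red_ringOf hσ c).trans (hl.red_ringOf hσ c).symm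

/-- The difference of two lifts on a piece. -/
def diffDer : 𝔖.C →+ 𝔖.K R where
  toFun c := 𝔖.mkK _ (sub_mem_ker hl hl' hσ c)
  map_zero' := 𝔖.incl_injective (by rw [incl_mkK, map_zero, map_zero, sub_zero, map_zero])
  map_add' c c' := 𝔖.incl_injective (by
    rw [map_add (𝔖.incl R), incl_mkK, incl_mkK, incl_mkK, map_add, map_add]
    abel)

theorem incl_diffDer (c : 𝔖.C) : 𝔖.incl R (diffDer hl hl' hσ c) =
    𝔖.ringOf (hl'.chart hσ) c - 𝔖.ringOf (hl.chart hσ) c := rfl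

theorem isDer_diffDer : IsDer σ (diffDer hl hl' hσ) := by
  refine ⟨fun c c' => 𝔖.incl_injective ?_, fun s => 𝔖.incl_injective ?_⟩
  · rw [map_add]
    conv_rhs => rw [← hl'.red_ringOf hσ c, ← hl.red_ringOf hσ c', incl_smul, incl_smul]
    rw [incl_diffDer, incl_diffDer, incl_diffDer, map_mul, map_mul]
    ring
  · rw [incl_diffDer, hl.ringOf_base hl' hσ, sub_self, map_zero]

end Chart

/-!
### Pairs
-/

variable (𝔖 R)

/-- Pairs of elements with the same reduction. -/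
abbrev Pairs : Subalgebra 𝔖.A (R × R) :=
  AlgHom.equalizer ((𝔖.red R).comp (AlgHom.fst 𝔖.A R R)) ((𝔖.red R).comp (AlgHom.snd 𝔖.A R R))

/-- The first projection of pairs. -/
def pr1 : 𝔖.Pairs R →ₐ[𝔖.A] R := (AlgHom.fst 𝔖.A R R).comp (𝔖.Pairs R).val

/-- The second projection of pairs. -/
def pr2 : 𝔖.Pairs R →ₐ[𝔖.A] R := (AlgHom.snd 𝔖.A R R).comp (𝔖.Pairs R).val

/-- The reduction of pairs. -/
def prRed : 𝔖.Pairs R →ₐ[𝔖.A] R ⧸ 𝔖.ker R := (𝔖.red R).comp (𝔖.pr1 R)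

theorem prRed_eq : (𝔖.red R).comp (𝔖.pr2 R) = 𝔖.prRed R := AlgHom.ext fun z => z.2.symm

theorem prRed_surjective : Function.Surjective (𝔖.prRed R) := fun y => by
  obtain ⟨x, rfl⟩ := Ideal.Quotient.mk_surjective y
  exact ⟨⟨(x, x), rfl⟩, rfl⟩

theorem prRed_nil (z : 𝔖.Pairs R) (hz : 𝔖.prRed R z = 0) : IsNilpotent z := by
  have h2 : 𝔖.red R (𝔖.pr2 R z) = 0 := (DFunLike.congr_fun (𝔖.prRed_eq R) z).trans hz
  refine ⟨2, Subtype.ext (Prod.ext ?_ ?_)⟩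
  · show (z.1 ^ 2).1 = 0
    rw [Prod.pow_fst, pow_two]
    exact 𝔖.mul_eq_zero R (Ideal.Quotient.eq_zero_iff_mem.1 hz) (Ideal.Quotient.eq_zero_iff_mem.1 hz)
  · show (z.1 ^ 2).2 = 0
    rw [Prod.pow_snd, pow_two]
    exact 𝔖.mul_eq_zero R (Ideal.Quotient.eq_zero_iff_mem.1 h2) (Ideal.Quotient.eq_zero_iff_mem.1 h2)

theorem sub_pr_mem (z : 𝔖.Pairs R) : 𝔖.pr2 R z - 𝔖.pr1 R z ∈ 𝔖.ker R :=
  Ideal.Quotient.eq.1 z.2.symm

/-- The additive difference of a pair. -/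
def pdiff : 𝔖.Pairs R →+ 𝔖.K R where
  toFun z := 𝔖.mkK _ (𝔖.sub_pr_mem R z)
  map_zero' := 𝔖.incl_injective (by rw [incl_mkK, map_zero, map_zero, sub_zero, map_zero])
  map_add' z z' := 𝔖.incl_injective (by
    rw [map_add (𝔖.incl R), incl_mkK, incl_mkK, incl_mkK, map_add, map_add]
    abel)

/-- The map from pairs to the trivial extension. -/
def psi : 𝔖.Pairs R →ₐ[𝔖.A] Triv (R ⧸ 𝔖.ker R) (𝔖.K R) :=
  { Triv.lift (𝔖.prRed R).toRingHom (𝔖.pdiff R) fun z z' => 𝔖.incl_injective (by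
      have h : (𝔖.prRed R).toRingHom z = 𝔖.red R (𝔖.pr2 R z) :=
        (DFunLike.congr_fun (𝔖.prRed_eq R) z).symm
      rw [map_add, h, show (𝔖.prRed R).toRingHom z' = 𝔖.red R (𝔖.pr1 R z') from rfl, incl_smul,
        incl_smul]
      show 𝔖.pr2 R (z * z') - 𝔖.pr1 R (z * z') = 𝔖.pr2 R z * (𝔖.pr2 R z' - 𝔖.pr1 R z') +
        𝔖.pr1 R z' * (𝔖.pr2 R z - 𝔖.pr1 R z)
      rw [map_mul, map_mul]
      ring) with
    commutes' := fun r => Triv.ext ((𝔖.prRed R).commutes r) (𝔖.incl_injective (by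
      show 𝔖.pr2 R (algebraMap 𝔖.A _ r) - 𝔖.pr1 R (algebraMap 𝔖.A _ r) = 0
      rw [AlgHom.commutes, AlgHom.commutes, sub_self])) }

theorem fst_psi : (𝔖.fstA (R ⧸ 𝔖.ker R) (𝔖.K R)).comp (𝔖.psi R) = 𝔖.prRed R := rfl

variable {𝔖 R}

section Pair

variable {σ : 𝔖.obj (R ⧸ 𝔖.ker R) ⟶ 𝔖.U} (hσ : 𝔖.IsPiece (R ⧸ 𝔖.ker R) σ)

/-- The pair of the two ring maps on the chart. -/
def pairHom : 𝔖.C →+* 𝔖.Pairs R :=
  RingHom.codRestrict ((𝔖.ringOf (hl.chart hσ)).prod (𝔖.ringOf (hl'.chart hσ))) (𝔖.Pairs R) fun c =>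
    (hl.red_ringOf hσ c).trans (hl'.red_ringOf hσ c).symm

theorem pr1_pairHom :
    (𝔖.pr1 R).toRingHom.comp (pairHom hl hl' hσ) = 𝔖.ringOf (hl.chart hσ) := rfl

theorem pr2_pairHom :
    (𝔖.pr2 R).toRingHom.comp (pairHom hl hl' hσ) = 𝔖.ringOf (hl'.chart hσ) := rfl

theorem exists_pairChart :
    ∃ w : 𝔖.obj (𝔖.Pairs R) ⟶ 𝔖.U, 𝔖.ringOf w = pairHom hl hl' hσ := by
  let δ : R →ₐ[𝔖.A] 𝔖.Pairs R :=
    AlgHom.codRestrict ((AlgHom.id 𝔖.A R).prod (AlgHom.id 𝔖.A R)) (𝔖.Pairs R) fun _ => rfl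
  refine 𝔖.exists_of_ringHom _ ?_
  have e : (pairHom hl hl' hσ).comp 𝔖.φ =
      δ.toRingHom.comp ((𝔖.ringOf (hl.chart hσ)).comp 𝔖.φ) :=
    RingHom.ext fun s => Subtype.ext (Prod.ext rfl (hl.ringOf_base hl' hσ s).symm)
  rw [e, CommRingCat.ofHom_comp, Spec.map_comp, Category.assoc, ringOf_str, ← Category.assoc,
    ← Spec.map_comp, ← CommRingCat.ofHom_comp, show δ.toRingHom.comp (algebraMap 𝔖.A R) =
      algebraMap 𝔖.A (𝔖.Pairs R) from δ.comp_algebraMap]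

/-- The chart map of the pair. -/
def pairChart : 𝔖.obj (𝔖.Pairs R) ⟶ 𝔖.U := (exists_pairChart hl hl' hσ).choose

theorem ringOf_pairChart : 𝔖.ringOf (pairChart hl hl' hσ) = pairHom hl hl' hσ :=
  (exists_pairChart hl hl' hσ).choose_spec

theorem pairChart_red : 𝔖.mapT (𝔖.prRed R) ≫ pairChart hl hl' hσ = σ := by
  refine 𝔖.ringOf_injective ?_
  rw [ringOf_mapT, ringOf_pairChart]
  exact RingHom.ext fun c => hl.red_ringOf hσ c

theorem pairChart_pr1 : 𝔖.mapT (𝔖.pr1 R) ≫ pairChart hl hl' hσ = hl.chart hσ :=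
  𝔖.ringOf_injective (by rw [ringOf_mapT, ringOf_pairChart]; rfl)

theorem pairChart_pr2 : 𝔖.mapT (𝔖.pr2 R) ≫ pairChart hl hl' hσ = hl'.chart hσ :=
  𝔖.ringOf_injective (by rw [ringOf_mapT, ringOf_pairChart]; rfl)

theorem pair_indep {σ' : 𝔖.obj (R ⧸ 𝔖.ker R) ⟶ 𝔖.U} (hσ' : 𝔖.IsPiece (R ⧸ 𝔖.ker R) σ') :
    (yon S).map (pairChart hl hl' hσ) ≫ 𝔖.a = (yon S).map (pairChart hl hl' hσ') ≫ 𝔖.a := by
  obtain ⟨w, ⟨hw₁, hw₂⟩, -⟩ := 𝔖.existsUnique_chartLift (𝔖.prRed R) (𝔖.prRed_surjective R)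
    (𝔖.prRed_nil R) σ' ((yon S).map (pairChart hl hl' hσ) ≫ 𝔖.a) (by
      rw [← Functor.map_comp_assoc, pairChart_red hl hl' hσ]
      exact hσ'.trans hσ.symm)
  have e : w = pairChart hl hl' hσ' := by
    have key : ∀ (p : 𝔖.Pairs R →ₐ[𝔖.A] R), (𝔖.red R).comp p = 𝔖.prRed R →
        ∀ (l₀ : (yon S).obj (𝔖.obj R) ⟶ X) (hl₀ : 𝔖.IsLift l₀),
        𝔖.mapT p ≫ pairChart hl hl' hσ = hl₀.chart hσ → hl₀.chart hσ' = 𝔖.mapT p ≫ w := by
      intro p hp l₀ hl₀ h₀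
      refine hl₀.chart_unique hσ' _ ?_ ?_
      · rw [← Category.assoc, ← mapT_comp, hp, hw₁]
      · rw [Functor.map_comp, Category.assoc, hw₂, ← Functor.map_comp_assoc, h₀, hl₀.chart_a hσ]
    refine 𝔖.ringOf_injective ?_
    rw [ringOf_pairChart]
    refine RingHom.ext fun c => Subtype.ext (Prod.ext ?_ ?_)
    · have := congrArg 𝔖.ringOf (key (𝔖.pr1 R) rfl l hl (pairChart_pr1 hl hl' hσ))
      rw [ringOf_mapT] at this
      exact (RingHom.congr_fun this c).symm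
    · have := congrArg 𝔖.ringOf (key (𝔖.pr2 R) (𝔖.prRed_eq R) l' hl' (pairChart_pr2 hl hl' hσ))
      rw [ringOf_mapT] at this
      exact (RingHom.congr_fun this c).symm
  rw [← e, hw₂]

/-- The difference of two lifts. -/
def diff : 𝔖.SPt (R ⧸ 𝔖.ker R) (𝔖.K R) where
  hom := (yon S).map (𝔖.mapT (𝔖.psi R) ≫ pairChart hl hl' hσ) ≫ 𝔖.a
  fst_hom := by
    rw [← Functor.map_comp_assoc, ← Category.assoc, ← mapT_comp, fst_psi, pairChart_red]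
    exact hσ
  hom_comp := by
    rw [map_comp_f, Category.assoc, Functor.map_comp _ (𝔖.mapT _), Category.assoc, ← map_comp_f]
    rw [← 𝔖.map_botR (𝔖.psi R)]
    congr 1
    let δ : R →ₐ[𝔖.A] 𝔖.Pairs R :=
      AlgHom.codRestrict ((AlgHom.id 𝔖.A R).prod (AlgHom.id 𝔖.A R)) (𝔖.Pairs R) fun _ => rfl
    have e : pairChart hl hl' hσ ≫ 𝔖.h = 𝔖.mapT δ ≫ hl.chart hσ ≫ 𝔖.h := by
      refine Over.OverMorphism.ext ?_
      show (pairChart hl hl' hσ).left ≫ Spec.map (CommRingCat.ofHom 𝔖.φ) =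
        Spec.map (CommRingCat.ofHom δ.toRingHom) ≫ (hl.chart hσ).left ≫
          Spec.map (CommRingCat.ofHom 𝔖.φ)
      rw [← 𝔖.specMap_ringOf (pairChart hl hl' hσ), ← 𝔖.specMap_ringOf (hl.chart hσ),
        ringOf_pairChart]
      simp only [← Spec.map_comp, ← CommRingCat.ofHom_comp]
      exact congrArg (fun g => Spec.map (CommRingCat.ofHom g))
        (RingHom.ext fun s => Subtype.ext (Prod.ext rfl (hl.ringOf_base hl' hσ s).symm))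
    rw [map_comp_f, e, Functor.map_comp, Category.assoc, ← map_comp_f, hl.chart_a hσ, hl.hom_comp,
      map_botR]

theorem der_diff {σ' : 𝔖.obj (R ⧸ 𝔖.ker R) ⟶ 𝔖.U} (hσ' : 𝔖.IsPiece (R ⧸ 𝔖.ker R) σ') :
    (diff hl hl' hσ).der hσ' = diffDer hl hl' hσ' := by
  have e : (diff hl hl' hσ).lift hσ' = 𝔖.mapT (𝔖.psi R) ≫ pairChart hl hl' hσ' := by
    refine SPt.lift_unique _ _ _ ?_ ?_
    · rw [← Category.assoc, ← mapT_comp, fst_psi, pairChart_red]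
    · show _ = (yon S).map (𝔖.mapT (𝔖.psi R) ≫ pairChart hl hl' hσ) ≫ 𝔖.a
      rw [Functor.map_comp, Functor.map_comp, Category.assoc, Category.assoc,
        pair_indep hl hl' hσ hσ']
  refine AddMonoidHom.ext fun c => ?_
  show (𝔖.ringOf ((diff hl hl' hσ).lift hσ') c).2 = _
  rw [e, ringOf_mapT, ringOf_pairChart]
  rfl

end Pair

end Setup

/-!
### Classes of differences
-/

namespace Cover

variable {𝔖 : Setup f} (𝔅 : Cover 𝔖) {R : Type u} [CommRing R] [Algebra 𝔖.A R]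
  {l l' l'' : (yon S).obj (𝔖.obj R) ⟶ X} (hl : 𝔖.IsLift l) (hl' : 𝔖.IsLift l')
  (hl'' : 𝔖.IsLift l'')

/-- The class of the difference of two lifts. -/
def dCls (q : 𝔅.B0 →ₐ[𝔖.A] R ⧸ 𝔖.ker R) : 𝔅.P →ₗ[𝔖.A0] 𝔖.K R :=
  𝔅.cls q (Setup.diff hl hl' (𝔅.piece q))

theorem dCls_indep (q q' : 𝔅.B0 →ₐ[𝔖.A] R ⧸ 𝔖.ker R) :
    𝔅.dCls hl hl' q = 𝔅.dCls hl hl' q' := by
  have e : Setup.diff hl hl' (𝔅.piece q) = Setup.diff hl hl' (𝔅.piece q') :=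
    Setup.SPt.ext_der (𝔅.piece q) (by rw [Setup.der_diff, Setup.der_diff])
  rw [dCls, dCls, e, 𝔅.cls_indep q q']

theorem dCls_add (q : 𝔅.B0 →ₐ[𝔖.A] R ⧸ 𝔖.ker R) :
    𝔅.dCls hl hl'' q = 𝔅.dCls hl hl' q + 𝔅.dCls hl' hl'' q := by
  refine 𝔅.cls_add q ?_
  rw [Setup.der_diff, Setup.der_diff, Setup.der_diff]
  refine AddMonoidHom.ext fun c => 𝔖.incl_injective ?_
  show 𝔖.incl R _ = 𝔖.incl R (_ + _)
  rw [map_add, Setup.incl_diffDer, Setup.incl_diffDer, Setup.incl_diffDer]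
  ring

theorem dCls_self (q : 𝔅.B0 →ₐ[𝔖.A] R ⧸ 𝔖.ker R) : 𝔅.dCls hl hl q = 0 := by
  have := 𝔅.dCls_add hl hl hl q
  simpa using this.symm

theorem dCls_symm (q : 𝔅.B0 →ₐ[𝔖.A] R ⧸ 𝔖.ker R) :
    𝔅.dCls hl' hl q = - 𝔅.dCls hl hl' q := by
  rw [eq_neg_iff_add_eq_zero, ← dCls_add, dCls_self]

theorem eq_of_dCls_eq_zero (q : 𝔅.B0 →ₐ[𝔖.A] R ⧸ 𝔖.ker R) (h : 𝔅.dCls hl hl' q = 0) : l = l' := by
  have h0 := (𝔅.cls_eq_zero_iff q).1 h
  rw [Setup.der_diff] at h0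
  have e : 𝔖.ringOf (hl.chart (𝔅.piece q)) = 𝔖.ringOf (hl'.chart (𝔅.piece q)) := RingHom.ext fun c => by
    have h1 := congrArg (𝔖.incl R) (DFunLike.congr_fun h0 c)
    rw [Setup.incl_diffDer, AddMonoidHom.zero_apply, map_zero, sub_eq_zero] at h1
    exact h1.symm
  rw [← hl.chart_a (𝔅.piece q), ← hl'.chart_a (𝔅.piece q), 𝔖.ringOf_injective e]

theorem dCls_map {R' : Type u} [CommRing R'] [Algebra 𝔖.A R'] (g : R →ₐ[𝔖.A] R')
    (q : 𝔅.B0 →ₐ[𝔖.A] R ⧸ 𝔖.ker R) (q' : 𝔅.B0 →ₐ[𝔖.A] R' ⧸ 𝔖.ker R') :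
    𝔅.dCls (hl.map g) (hl'.map g) q' = (𝔖.kMap g).comp (𝔅.dCls hl hl' q) := by
  rw [dCls, dCls, ← 𝔅.cls_map q (Setup.diff hl hl' (𝔅.piece q)) (𝔖.redMap g) (𝔖.kMap g)
    (𝔖.kMap_smul g) q']
  congr 1
  refine Setup.SPt.ext_der (Setup.isPiece_map (𝔅.piece q) (𝔖.redMap g)) ?_
  rw [Setup.der_diff, Setup.SPt.der_map (𝔅.piece q), Setup.der_diff]
  refine AddMonoidHom.ext fun c => 𝔖.incl_injective ?_
  show 𝔖.incl R' _ = 𝔖.incl R' (𝔖.kMap g _)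
  rw [Setup.incl_kMap, Setup.incl_diffDer, Setup.incl_diffDer, map_sub, hl.chart_map, hl'.chart_map,
    Setup.ringOf_mapT, Setup.ringOf_mapT]
  rfl

theorem exists_dCls_eq (q : 𝔅.B0 →ₐ[𝔖.A] R ⧸ 𝔖.ker R) (ϑ : 𝔅.P →ₗ[𝔖.A0] 𝔖.K R) :
    ∃ (l' : (yon S).obj (𝔖.obj R) ⟶ X) (hl' : 𝔖.IsLift l'), 𝔅.dCls hl hl' q = ϑ := by
  obtain ⟨x, rfl⟩ := 𝔅.cls_surj q ϑ
  have hσ := 𝔅.piece q
  have hd := x.isDer_der hσ
  let r := 𝔖.ringOf (hl.chart hσ)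
  let δ := x.der hσ
  have hkey : ∀ c c', 𝔖.incl R (δ (c * c')) = r c * 𝔖.incl R (δ c') + r c' * 𝔖.incl R (δ c) := by
    intro c c'
    rw [hd.leibniz, map_add, ← hl.red_ringOf hσ c, ← hl.red_ringOf hσ c', Setup.incl_smul,
      Setup.incl_smul]
  let r' : 𝔖.C →+* R :=
    { toFun := fun c => r c + 𝔖.incl R (δ c)
      map_one' := by
        have h1 := hkey 1 1
        simp only [mul_one, map_one, one_mul] at h1
        have h2 : 𝔖.incl R (δ 1) = 0 := by linear_combination -h1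
        rw [h2, map_one, add_zero]
      map_mul' := fun c c' => by
        rw [hkey, map_mul]
        linear_combination -(𝔖.mul_eq_zero R (𝔖.incl_mem (δ c)) (𝔖.incl_mem (δ c')))
      map_zero' := by rw [map_zero, map_zero, map_zero, add_zero]
      map_add' := fun c c' => by rw [map_add, map_add, map_add]; abel }
  have hφ : r'.comp 𝔖.φ = r.comp 𝔖.φ := RingHom.ext fun s => by
    show r (𝔖.φ s) + 𝔖.incl R (δ (𝔖.φ s)) = r (𝔖.φ s)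
    rw [hd.base, map_zero, add_zero]
  obtain ⟨u, hu⟩ := 𝔖.exists_of_ringHom r' (by rw [hφ]; exact 𝔖.ringOf_str (hl.chart hσ))
  have h1 : 𝔖.mapT (𝔖.red R) ≫ u = 𝔖.mapT q ≫ 𝔅.σ := by
    refine 𝔖.ringOf_injective ?_
    rw [Setup.ringOf_mapT, hu]
    refine RingHom.ext fun c => ?_
    show 𝔖.red R (r c + 𝔖.incl R (δ c)) = _
    rw [map_add, hl.red_ringOf hσ]
    exact add_eq_left.2 (Ideal.Quotient.eq_zero_iff_mem.2 (𝔖.incl_mem _))
  have hl' : 𝔖.IsLift ((yon S).map u ≫ 𝔖.a) := by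
    refine ⟨?_, ?_⟩
    · rw [← Functor.map_comp_assoc, h1]
      exact hσ
    · rw [Setup.map_comp_f]
      have e : u ≫ 𝔖.h = hl.chart hσ ≫ 𝔖.h := by
        refine Over.OverMorphism.ext ?_
        show u.left ≫ Spec.map (CommRingCat.ofHom 𝔖.φ) =
          (hl.chart hσ).left ≫ Spec.map (CommRingCat.ofHom 𝔖.φ)
        rw [← 𝔖.specMap_ringOf u, ← 𝔖.specMap_ringOf (hl.chart hσ), hu]
        simp only [← Spec.map_comp, ← CommRingCat.ofHom_comp]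
        exact congrArg (fun g => Spec.map (CommRingCat.ofHom g)) hφ
      rw [e, ← Setup.map_comp_f, hl.chart_a hσ, hl.hom_comp]
  refine ⟨_, hl', ?_⟩
  rw [dCls]
  congr 1
  refine Setup.SPt.ext_der hσ ?_
  rw [Setup.der_diff]
  refine AddMonoidHom.ext fun c => 𝔖.incl_injective ?_
  rw [Setup.incl_diffDer, hl'.chart_unique hσ u h1 rfl, hu]
  show r c + 𝔖.incl R (δ c) - r c = _
  rw [add_sub_cancel_left]

end Cover

end Groth.L20.SpaceLocal
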