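import Groth.Agent.L20.SpaceLocal.SDiff
import Groth.Agent.L23.InfGlue

/-!
# Lifts from a faithfully flat etale piece
-/

set_option autoImplicit false
set_option backward.isDefEq.respectTransparency.types false
set_option linter.style.haveILetI false
set_option linter.unusedVariables false
set_option linter.unusedSectionVars false

universe u

open CategoryTheory CategoryTheory.Limits AlgebraicGeometry AlgSp Opposite TensorProduct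

noncomputable section

namespace Groth.L20.SpaceLocal

variable {S : Scheme.{u}} {X Y : Sp S} {f : X ⟶ Y}

namespace Cover

variable {𝔖 : Setup f} (𝔅 : Cover 𝔖)

theorem exists_local (hsm : letI := 𝔖.φ.toAlgebra; Algebra.FormallySmooth 𝔖.D 𝔖.C) :
    ∃ l : (yon S).obj (𝔖.obj 𝔅.B) ⟶ X, 𝔖.IsLift l := by
  have hσ : (yon S).map 𝔅.σ ≫ 𝔖.a = 𝔖.topR 𝔅.B0 := 𝔅.hσ
  have hth := 𝔖.isThickening_mapT (𝔖.red 𝔅.B) Ideal.Quotient.mk_surjective (𝔖.red_nil 𝔅.B)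
  have w : (yon S).map (𝔅.σ ≫ 𝔖.h) ≫ 𝔖.b =
      (yon S).map (𝔖.mapT (𝔖.red 𝔅.B)) ≫ 𝔖.botR 𝔅.B := by
    rw [← Setup.map_comp_f, hσ, Setup.topR_comp, Setup.map_botR]
  obtain ⟨v, ⟨hv₁, hv₂⟩, -⟩ := Groth.L23.etale_thick_lift 𝔖.etale_b _ hth _ _ w
  obtain ⟨v, rfl⟩ := (yon S).map_surjective v
  have hv : 𝔖.mapT (𝔖.red 𝔅.B) ≫ v = 𝔅.σ ≫ 𝔖.h :=
    (yon S).map_injective (by rw [Functor.map_comp, hv₁])
  obtain ⟨d, hd⟩ : ∃ d : 𝔖.D →+* 𝔅.B, Spec.map (CommRingCat.ofHom d) = v.left :=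
    ⟨(Spec.preimage v.left).hom, Spec.map_preimage _⟩
  have hdσ : (𝔖.red 𝔅.B).toRingHom.comp d = (𝔖.ringOf 𝔅.σ).comp 𝔖.φ := by
    have e : Spec.map (CommRingCat.ofHom ((𝔖.red 𝔅.B).toRingHom.comp d)) =
        Spec.map (CommRingCat.ofHom ((𝔖.ringOf 𝔅.σ).comp 𝔖.φ)) := by
      simp only [CommRingCat.ofHom_comp, Spec.map_comp, Setup.specMap_ringOf, hd]
      exact congr($(hv).left)
    exact congrArg CommRingCat.Hom.hom (Spec.map_injective e)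
  letI : Algebra 𝔖.D 𝔖.C := 𝔖.φ.toAlgebra
  letI : Algebra 𝔖.D 𝔅.B := d.toAlgebra
  haveI := hsm
  let g : 𝔖.C →ₐ[𝔖.D] 𝔅.B ⧸ 𝔖.ker 𝔅.B :=
    { 𝔖.ringOf 𝔅.σ with commutes' := fun s => (RingHom.congr_fun hdσ s).symm }
  obtain ⟨L, hL⟩ := Algebra.FormallySmooth.exists_lift (R := 𝔖.D) (A := 𝔖.C) (𝔖.ker 𝔅.B)
    ⟨2, by rw [← Ideal.map_pow, 𝔖.sq_zero, Ideal.map_bot, Ideal.zero_eq_bot]⟩ g
  have hLφ : L.toRingHom.comp 𝔖.φ = d := L.comp_algebraMap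
  obtain ⟨u, hu⟩ := 𝔖.exists_of_ringHom L.toRingHom (by
    rw [hLφ, hd]
    exact Over.w v)
  refine ⟨(yon S).map u ≫ 𝔖.a, ?_, ?_⟩
  · have e : 𝔖.mapT (𝔖.red 𝔅.B) ≫ u = 𝔅.σ := by
      refine 𝔖.ringOf_injective ?_
      rw [Setup.ringOf_mapT, hu]
      exact RingHom.ext fun c => DFunLike.congr_fun hL c
    rw [← Functor.map_comp_assoc, e, hσ]
  · have e : u ≫ 𝔖.h = v := by
      refine Over.OverMorphism.ext ?_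
      show u.left ≫ Spec.map (CommRingCat.ofHom 𝔖.φ) = v.left
      rw [← 𝔖.specMap_ringOf u, hu, ← hd, ← Spec.map_comp, ← CommRingCat.ofHom_comp, hLφ]
    rw [Setup.map_comp_f, e, hv₂]

section Cocycle

variable {l : (yon S).obj (𝔖.obj 𝔅.B) ⟶ X} (hl : 𝔖.IsLift l)

/-- The class of the difference of two restrictions of a local lift. -/
def zCls {R : Type u} [CommRing R] [Algebra 𝔖.A R] (p₁ p₂ : 𝔅.B →ₐ[𝔖.A] R) :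
    𝔅.P →ₗ[𝔖.A0] 𝔖.K R :=
  𝔅.dCls (hl.map p₁) (hl.map p₂) (𝔖.redMap p₁)

theorem zCls_add {R : Type u} [CommRing R] [Algebra 𝔖.A R] (p₁ p₂ p₃ : 𝔅.B →ₐ[𝔖.A] R) :
    zCls 𝔅 hl p₁ p₃ = zCls 𝔅 hl p₁ p₂ + zCls 𝔅 hl p₂ p₃ := by
  unfold zCls
  rw [𝔅.dCls_indep (hl.map p₂) (hl.map p₃) (𝔖.redMap p₂) (𝔖.redMap p₁)]
  exact 𝔅.dCls_add _ _ _ _

theorem dCls_congr {R : Type u} [CommRing R] [Algebra 𝔖.A R]
    {m m' n n' : (yon S).obj (𝔖.obj R) ⟶ X} (e : m = n) (e' : m' = n') (h : 𝔖.IsLift m)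
    (h' : 𝔖.IsLift m') (k : 𝔖.IsLift n) (k' : 𝔖.IsLift n')
    (q : 𝔅.B0 →ₐ[𝔖.A] R ⧸ 𝔖.ker R) : 𝔅.dCls h h' q = 𝔅.dCls k k' q := by
  subst e; subst e'; rfl

theorem zCls_map {R R' : Type u} [CommRing R] [Algebra 𝔖.A R] [CommRing R'] [Algebra 𝔖.A R']
    (g : R →ₐ[𝔖.A] R') (p₁ p₂ : 𝔅.B →ₐ[𝔖.A] R) :
    (𝔖.kMap g).comp (zCls 𝔅 hl p₁ p₂) = zCls 𝔅 hl (g.comp p₁) (g.comp p₂) := by
  unfold zCls
  rw [← 𝔅.dCls_map (hl.map p₁) (hl.map p₂) g (𝔖.redMap p₁) (𝔖.redMap (g.comp p₁))]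
  exact 𝔅.dCls_congr (by rw [Setup.mapT_comp, Functor.map_comp, Category.assoc])
    (by rw [Setup.mapT_comp, Functor.map_comp, Category.assoc]) _ _ _ _ _

end Cocycle

section Descent

/-- The first inclusion into the double overlap. -/
abbrev i1 : 𝔅.B →ₐ[𝔖.A] 𝔅.B ⊗[𝔖.A] 𝔅.B := Algebra.TensorProduct.includeLeft

/-- The second inclusion into the double overlap. -/
abbrev i2 : 𝔅.B →ₐ[𝔖.A] 𝔅.B ⊗[𝔖.A] 𝔅.B := Algebra.TensorProduct.includeRight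

/-- The degree zero differential on kernels. -/
def kd0 : 𝔖.K 𝔅.B →ₗ[𝔖.A0] 𝔖.K (𝔅.B ⊗[𝔖.A] 𝔅.B) := 𝔖.kMap 𝔅.i2 - 𝔖.kMap 𝔅.i1

/-- The degree one differential on kernels. -/
def kd1 : 𝔖.K (𝔅.B ⊗[𝔖.A] 𝔅.B) →ₗ[𝔖.A0] 𝔖.K (𝔅.B ⊗[𝔖.A] (𝔅.B ⊗[𝔖.A] 𝔅.B)) :=
  𝔖.kMap (e23 𝔖.A 𝔅.B) - 𝔖.kMap (e13 𝔖.A 𝔅.B) + 𝔖.kMap (e12 𝔖.A 𝔅.B)

theorem incl_kd0 (k : 𝔖.K 𝔅.B) :
    𝔖.incl _ (𝔅.kd0 k) = d0 𝔖.A 𝔅.B (𝔖.incl 𝔅.B k) := by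
  rw [kd0, LinearMap.sub_apply, map_sub, Setup.incl_kMap, Setup.incl_kMap]
  rfl

theorem incl_kd1 (k : 𝔖.K (𝔅.B ⊗[𝔖.A] 𝔅.B)) :
    𝔖.incl _ (𝔅.kd1 k) = d1 𝔖.A 𝔅.B (𝔖.incl _ k) := by
  rw [kd1, LinearMap.add_apply, LinearMap.sub_apply, map_add, map_sub, Setup.incl_kMap,
    Setup.incl_kMap, Setup.incl_kMap]
  rfl

theorem kd1_kd0 (k : 𝔖.K 𝔅.B) : 𝔅.kd1 (𝔅.kd0 k) = 0 := by
  refine 𝔖.incl_injective ?_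
  rw [incl_kd1, incl_kd0, d1_d0, map_zero]

theorem exists_kd0_eq (k : 𝔖.K (𝔅.B ⊗[𝔖.A] 𝔅.B)) (hk : 𝔅.kd1 k = 0) :
    ∃ k₀ : 𝔖.K 𝔅.B, 𝔅.kd0 k₀ = k := by
  have hz : d1 𝔖.A 𝔅.B (𝔖.incl _ k) = 0 := by rw [← incl_kd1, hk, map_zero]
  obtain ⟨y, hy⟩ := exists_d0_eq 𝔖.A 𝔅.B _ hz
  let Φ : 𝔅.B ⊗[𝔖.A] 𝔅.B →ₐ[𝔖.A] 𝔅.R2 :=
    Algebra.TensorProduct.lift (𝔅.q1.comp (𝔖.red 𝔅.B)) (𝔅.q2.comp (𝔖.red 𝔅.B))
      fun _ _ => Commute.all _ _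
  have hΦ : Φ (𝔖.incl _ k) = 0 := by
    have hle : 𝔖.ker (𝔅.B ⊗[𝔖.A] 𝔅.B) ≤ RingHom.ker Φ.toRingHom := by
      refine Ideal.map_le_iff_le_comap.2 fun i hi => ?_
      rw [Ideal.mem_comap, RingHom.mem_ker]
      show Φ (algebraMap 𝔖.A _ i) = 0
      rw [Φ.commutes, IsScalarTower.algebraMap_apply 𝔖.A 𝔖.A0 𝔅.R2, Ideal.Quotient.algebraMap_eq,
        Ideal.Quotient.eq_zero_iff_mem.2 hi, map_zero]
    exact hle (𝔖.incl_mem k)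
  have hy0 : d0 𝔖.A0 𝔅.B0 (𝔖.red 𝔅.B y) = 0 := by
    rw [← hy, d0_apply, map_sub] at hΦ
    simp only [Φ, Algebra.TensorProduct.lift_tmul, map_one, one_mul, mul_one] at hΦ
    exact hΦ
  obtain ⟨c0, hc0⟩ := exists_algebraMap_eq 𝔖.A0 𝔅.B0 _ hy0
  obtain ⟨c, rfl⟩ := Ideal.Quotient.mk_surjective c0
  have hmem : y - algebraMap 𝔖.A 𝔅.B c ∈ 𝔖.ker 𝔅.B := Ideal.Quotient.eq.1 hc0.symm
  refine ⟨𝔖.mkK _ hmem, 𝔖.incl_injective ?_⟩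
  rw [incl_kd0, Setup.incl_mkK, map_sub, hy]
  have : d0 𝔖.A 𝔅.B (algebraMap 𝔖.A 𝔅.B c) = 0 := by
    rw [d0_apply, sub_eq_zero, Algebra.algebraMap_eq_smul_one, TensorProduct.smul_tmul]
  rw [this, sub_zero]

theorem exists_compatible (hsm : letI := 𝔖.φ.toAlgebra; Algebra.FormallySmooth 𝔖.D 𝔖.C) :
    ∃ l : (yon S).obj (𝔖.obj 𝔅.B) ⟶ X, 𝔖.IsLift l ∧
      (yon S).map (𝔖.mapT 𝔅.i1) ≫ l = (yon S).map (𝔖.mapT 𝔅.i2) ≫ l := by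
  obtain ⟨l, hl⟩ := 𝔅.exists_local hsm
  let z := zCls 𝔅 hl 𝔅.i1 𝔅.i2
  have hz : 𝔅.kd1.comp z = 0 := by
    have h12 : (e12 𝔖.A 𝔅.B).comp 𝔅.i1 = t1 𝔖.A 𝔅.B := Algebra.TensorProduct.lift_comp_includeLeft _ _ _
    have h22 : (e12 𝔖.A 𝔅.B).comp 𝔅.i2 = t2 𝔖.A 𝔅.B :=
      AlgHom.ext fun b => by
        show e12 𝔖.A 𝔅.B (1 ⊗ₜ b) = _
        rw [Algebra.TensorProduct.lift_tmul, map_one, one_mul]
    have h13 : (e13 𝔖.A 𝔅.B).comp 𝔅.i1 = t1 𝔖.A 𝔅.B := Algebra.TensorProduct.lift_comp_includeLeft _ _ _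
    have h23 : (e13 𝔖.A 𝔅.B).comp 𝔅.i2 = t3 𝔖.A 𝔅.B :=
      AlgHom.ext fun b => by
        show e13 𝔖.A 𝔅.B (1 ⊗ₜ b) = _
        rw [Algebra.TensorProduct.lift_tmul, map_one, one_mul]
    rw [kd1, LinearMap.add_comp, LinearMap.sub_comp, zCls_map, zCls_map, zCls_map, h12, h22, h13,
      h23, zCls_add 𝔅 hl (t1 𝔖.A 𝔅.B) (t2 𝔖.A 𝔅.B) (t3 𝔖.A 𝔅.B)]
    show zCls 𝔅 hl (t2 𝔖.A 𝔅.B) (t3 𝔖.A 𝔅.B) - _ + _ = 0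
    abel
  haveI := 𝔅.projective_P hsm
  let Φ : 𝔖.K 𝔅.B →ₗ[𝔖.A0] LinearMap.ker 𝔅.kd1 :=
    𝔅.kd0.codRestrict _ fun k => LinearMap.mem_ker.2 (𝔅.kd1_kd0 k)
  have hΦ : Function.Surjective Φ := fun k => by
    obtain ⟨k₀, hk₀⟩ := 𝔅.exists_kd0_eq k.1 (LinearMap.mem_ker.1 k.2)
    exact ⟨k₀, Subtype.ext hk₀⟩
  obtain ⟨η, hη⟩ := Module.projective_lifting_property Φ
    (z.codRestrict (LinearMap.ker 𝔅.kd1) fun p => LinearMap.mem_ker.2 (LinearMap.congr_fun hz p)) hΦ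
  have hη' : 𝔅.kd0.comp η = z :=
    LinearMap.ext fun p => congrArg Subtype.val (LinearMap.congr_fun hη p)
  obtain ⟨l', hl', e⟩ := 𝔅.exists_dCls_eq hl (AlgHom.id 𝔖.A 𝔅.B0) (-η)
  refine ⟨l', hl', 𝔅.eq_of_dCls_eq_zero (hl'.map 𝔅.i1) (hl'.map 𝔅.i2) (𝔖.redMap 𝔅.i1) ?_⟩
  rw [𝔅.dCls_add (hl'.map 𝔅.i1) (hl.map 𝔅.i1) (hl'.map 𝔅.i2),
    𝔅.dCls_add (hl.map 𝔅.i1) (hl.map 𝔅.i2) (hl'.map 𝔅.i2),
    𝔅.dCls_symm (hl.map 𝔅.i1) (hl'.map 𝔅.i1),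
    𝔅.dCls_map hl hl' 𝔅.i1 (AlgHom.id 𝔖.A 𝔅.B0) (𝔖.redMap 𝔅.i1),
    𝔅.dCls_map hl hl' 𝔅.i2 (AlgHom.id 𝔖.A 𝔅.B0) (𝔖.redMap 𝔅.i1), e]
  show - (𝔖.kMap 𝔅.i1).comp (-η) + (z + (𝔖.kMap 𝔅.i2).comp (-η)) = 0
  rw [← hη', kd0, LinearMap.sub_comp, LinearMap.comp_neg, LinearMap.comp_neg]
  abel

theorem exists_lift (hsm : letI := 𝔖.φ.toAlgebra; Algebra.FormallySmooth 𝔖.D 𝔖.C)
    (he : Etale (Spec.map (CommRingCat.ofHom (algebraMap 𝔖.A 𝔅.B)))) :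
    ∃ L : (yon S).obj (Over.mk 𝔖.str) ⟶ X,
      (yon S).map (𝔖.toT 𝔖.A0) ≫ L = 𝔖.top ∧ L ≫ f = 𝔖.bot := by
  obtain ⟨l, hl, hc⟩ := 𝔅.exists_compatible hsm
  have hsurj : ∀ x : ↥(Spec (CommRingCat.of 𝔖.A)),
      x ∈ Set.range (Spec.map (CommRingCat.ofHom (algebraMap 𝔖.A 𝔅.B))) := fun x => by
    obtain ⟨y, hy⟩ := PrimeSpectrum.comap_surjective_of_faithfullyFlat (A := 𝔖.A) (B := 𝔅.B) x
    exact ⟨y, hy⟩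
  let P : Over S := 𝔖.obj (𝔅.B ⊗[𝔖.A] 𝔅.B)
  obtain ⟨L, hL⟩ := Groth.L23.exists_glue_etale (fun _ : PUnit.{u + 1} => 𝔖.obj 𝔅.B)
    (fun _ => 𝔖.toT 𝔅.B) (fun _ => he) (fun x => ⟨PUnit.unit, hsurj x⟩) (fun _ => l)
    (fun _ _ Z p q hpq => by
      have hw : p.left ≫ Spec.map (CommRingCat.ofHom (algebraMap 𝔖.A 𝔅.B)) =
          q.left ≫ Spec.map (CommRingCat.ofHom (algebraMap 𝔖.A 𝔅.B)) := congr($(hpq).left)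
      let r := pullback.lift p.left q.left hw ≫ (pullbackSpecIso 𝔖.A 𝔅.B 𝔅.B).hom
      have hr1 : r ≫ (𝔖.mapT 𝔅.i1).left = p.left := by
        show r ≫ Spec.map (CommRingCat.ofHom Algebra.TensorProduct.includeLeftRingHom) = _
        rw [Category.assoc, pullbackSpecIso_hom_fst, pullback.lift_fst]
      have hr2 : r ≫ (𝔖.mapT 𝔅.i2).left = q.left := by
        show r ≫ Spec.map (CommRingCat.ofHom
          (RingHomClass.toRingHom Algebra.TensorProduct.includeRight)) = _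
        rw [Category.assoc, pullbackSpecIso_hom_snd, pullback.lift_snd]
      let r' : Z ⟶ P := Over.homMk r (by
        rw [← Over.w (𝔖.mapT 𝔅.i1), ← Category.assoc, hr1, Over.w p])
      have hp : p = r' ≫ 𝔖.mapT 𝔅.i1 := Over.OverMorphism.ext hr1.symm
      have hq : q = r' ≫ 𝔖.mapT 𝔅.i2 := Over.OverMorphism.ext hr2.symm
      rw [hp, hq, Functor.map_comp, Functor.map_comp, Category.assoc, Category.assoc, hc])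
  refine ⟨L, ?_, ?_⟩
  · let gL : 𝔅.B →ₐ[𝔖.A] 𝔅.B ⊗[𝔖.A] 𝔖.A0 := Algebra.TensorProduct.includeLeft
    let gR : 𝔖.A0 →ₐ[𝔖.A] 𝔅.B ⊗[𝔖.A] 𝔖.A0 := Algebra.TensorProduct.includeRight
    let g : 𝔅.B0 →ₐ[𝔖.A] 𝔅.B ⊗[𝔖.A] 𝔖.A0 :=
      ((Algebra.TensorProduct.quotIdealMapEquivTensorQuot 𝔅.B 𝔖.I).restrictScalars 𝔖.A).toAlgHom
    have hgL : gL = g.comp (𝔖.red 𝔅.B) := AlgHom.ext fun b => rfl
    have hgR : gR = g.comp (IsScalarTower.toAlgHom 𝔖.A 𝔖.A0 𝔅.B0) := AlgHom.ext fun z => by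
      obtain ⟨z, rfl⟩ := Ideal.Quotient.mk_surjective z
      show gR (algebraMap 𝔖.A 𝔖.A0 z) = g (algebraMap 𝔖.A0 𝔅.B0 (algebraMap 𝔖.A 𝔖.A0 z))
      rw [← IsScalarTower.algebraMap_apply, gR.commutes, g.commutes]
    have sq : IsPullback (𝔖.mapT gL).left (𝔖.mapT gR).left
        (Spec.map (CommRingCat.ofHom (algebraMap 𝔖.A 𝔅.B)))
        (Spec.map (CommRingCat.ofHom (algebraMap 𝔖.A 𝔖.A0))) :=
      isPullback_SpecMap_of_isPushout _ _ _ _ (CommRingCat.isPushout_tensorProduct _ _ _)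
    have := he
    refine Groth.L23.ext_of_etale_nhds _ _ fun x => ?_
    refine ⟨_, 𝔖.mapT gR, MorphismProperty.of_isPullback (P := @Etale) sq he, ?_, ?_⟩
    · haveI : Surjective (Spec.map (CommRingCat.ofHom (algebraMap 𝔖.A 𝔅.B))) := ⟨hsurj⟩
      exact (MorphismProperty.of_isPullback (P := @Surjective) sq inferInstance).1 x
    · have e : 𝔖.mapT gR ≫ 𝔖.toT 𝔖.A0 = 𝔖.mapT gL ≫ 𝔖.toT 𝔅.B :=
        Over.OverMorphism.ext sq.w.symm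
      rw [← Functor.map_comp_assoc, e, Functor.map_comp_assoc, hL PUnit.unit, hgL, Setup.mapT_comp,
        Functor.map_comp_assoc, hl.red_hom, hgR, Setup.mapT_comp, Functor.map_comp_assoc]
      rfl
  · refine Groth.L23.ext_of_etale_nhds _ _ fun x => ⟨_, 𝔖.toT 𝔅.B, he, hsurj x, ?_⟩
    rw [← Category.assoc, hL PUnit.unit, hl.hom_comp]
    rfl

end Descent

end Cover

end Groth.L20.SpaceLocal
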