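import Groth.Agent.L20.SmoothLocal.Pt
import Groth.Agent.L23.InfEtale

/-!
# Points of a sheaf in trivial square-zero extensions, read on an affine etale chart
-/

set_option autoImplicit false
set_option backward.isDefEq.respectTransparency.types false
set_option linter.style.haveILetI false
set_option linter.unusedVariables false

universe u

open CategoryTheory CategoryTheory.Limits AlgebraicGeometry AlgSp Opposite
open Groth.L20.SmoothLocal (Triv)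

noncomputable section

namespace Groth.L20.SpaceLocal

variable {S : Scheme.{u}}

/-- The base change data of a lifting problem together with an affine chart of the morphism and an
affine piece over which the top arrow factors through the chart. -/
structure Setup {X Y : Sp S} (f : X ⟶ Y) where
  A : Type u
  [ringA : CommRing A]
  I : Ideal A
  sq_zero : I ^ 2 = ⊥
  str : Spec (CommRingCat.of A) ⟶ S
  top : (yon S).obj (Over.mk (Spec.map (CommRingCat.ofHom (algebraMap A (A ⧸ I))) ≫ str)) ⟶ X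
  bot : (yon S).obj (Over.mk str) ⟶ Y
  comm : top ≫ f = (yon S).map (Over.homMk (Spec.map (CommRingCat.ofHom (algebraMap A (A ⧸ I)))) rfl :
      Over.mk (Spec.map (CommRingCat.ofHom (algebraMap A (A ⧸ I))) ≫ str) ⟶ Over.mk str) ≫ bot
  C : Type u
  [ringC : CommRing C]
  D : Type u
  [ringD : CommRing D]
  φ : D →+* C
  vS : Spec (CommRingCat.of D) ⟶ S
  a : (yon S).obj (Over.mk (Spec.map (CommRingCat.ofHom φ) ≫ vS)) ⟶ X
  b : (yon S).obj (Over.mk vS) ⟶ Y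
  etale_a : RepWith @Etale a
  etale_b : RepWith @Etale b
  chart : a ≫ f = (yon S).map (Over.homMk (Spec.map (CommRingCat.ofHom φ)) rfl :
      Over.mk (Spec.map (CommRingCat.ofHom φ) ≫ vS) ⟶ Over.mk vS) ≫ b

attribute [instance] Setup.ringA Setup.ringC Setup.ringD

variable {X Y : Sp S} {f : X ⟶ Y} (𝔖 : Setup f)

namespace Setup

/-- The reduced base. -/
abbrev A0 : Type u := 𝔖.A ⧸ 𝔖.I

/-- The chart of the source. -/
abbrev U : Over S := Over.mk (Spec.map (CommRingCat.ofHom 𝔖.φ) ≫ 𝔖.vS)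

/-- The chart of the target. -/
abbrev V : Over S := Over.mk 𝔖.vS

/-- The chart morphism. -/
abbrev h : 𝔖.U ⟶ 𝔖.V := Over.homMk (Spec.map (CommRingCat.ofHom 𝔖.φ)) rfl

section Algebras

variable (R : Type u) [CommRing R] [Algebra 𝔖.A R]

/-- The spectrum of an algebra over the base. -/
abbrev obj : Over S := Over.mk (Spec.map (CommRingCat.ofHom (algebraMap 𝔖.A R)) ≫ 𝔖.str)

variable {R} {R' : Type u} [CommRing R'] [Algebra 𝔖.A R']

/-- The morphism of an algebra map. -/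
def mapT (g : R →ₐ[𝔖.A] R') : 𝔖.obj R' ⟶ 𝔖.obj R :=
  Over.homMk (Spec.map (CommRingCat.ofHom g.toRingHom)) (by
    show Spec.map _ ≫ Spec.map _ ≫ 𝔖.str = Spec.map _ ≫ 𝔖.str
    rw [← Category.assoc, ← Spec.map_comp, ← CommRingCat.ofHom_comp]
    congr 3
    exact g.comp_algebraMap)

theorem mapT_comp {R'' : Type u} [CommRing R''] [Algebra 𝔖.A R''] (g : R →ₐ[𝔖.A] R')
    (g' : R' →ₐ[𝔖.A] R'') : 𝔖.mapT (g'.comp g) = 𝔖.mapT g' ≫ 𝔖.mapT g :=
  Over.OverMorphism.ext (Spec.map_comp (CommRingCat.ofHom g.toRingHom) (CommRingCat.ofHom g'.toRingHom))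

variable (R)

/-- The structure map to the base. -/
def toT : 𝔖.obj R ⟶ Over.mk 𝔖.str :=
  Over.homMk (Spec.map (CommRingCat.ofHom (algebraMap 𝔖.A R))) rfl

/-- The bottom arrow on an algebra. -/
def botR : (yon S).obj (𝔖.obj R) ⟶ Y := (yon S).map (𝔖.toT R) ≫ 𝔖.bot

variable {R}

theorem map_botR (g : R →ₐ[𝔖.A] R') : (yon S).map (𝔖.mapT g) ≫ 𝔖.botR R = 𝔖.botR R' := by
  rw [botR, botR, ← Functor.map_comp_assoc]
  congr 2
  refine Over.OverMorphism.ext ?_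
  show Spec.map _ ≫ Spec.map _ = Spec.map _
  rw [← Spec.map_comp, ← CommRingCat.ofHom_comp]
  congr 2
  exact g.comp_algebraMap

end Algebras

section Reduced

variable (R0 : Type u) [CommRing R0] [Algebra 𝔖.A R0] [Algebra 𝔖.A0 R0]
  [IsScalarTower 𝔖.A 𝔖.A0 R0]

/-- The map to the reduced base. -/
def toT0 : 𝔖.obj R0 ⟶ 𝔖.obj 𝔖.A0 := 𝔖.mapT (IsScalarTower.toAlgHom 𝔖.A 𝔖.A0 R0)

/-- The top arrow on a reduced algebra. -/
def topR : (yon S).obj (𝔖.obj R0) ⟶ X := (yon S).map (𝔖.toT0 R0) ≫ 𝔖.top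

variable {R0}

theorem map_topR {R0' : Type u} [CommRing R0'] [Algebra 𝔖.A R0'] [Algebra 𝔖.A0 R0']
    [IsScalarTower 𝔖.A 𝔖.A0 R0'] (g : R0 →ₐ[𝔖.A] R0') :
    (yon S).map (𝔖.mapT g) ≫ 𝔖.topR R0 = 𝔖.topR R0' := by
  rw [topR, topR, ← Functor.map_comp_assoc, toT0, toT0, ← mapT_comp]
  congr 3
  refine AlgHom.ext fun z => ?_
  obtain ⟨z, rfl⟩ := Ideal.Quotient.mk_surjective z
  show g (algebraMap 𝔖.A0 R0 (algebraMap 𝔖.A 𝔖.A0 z)) = algebraMap 𝔖.A0 R0' (algebraMap 𝔖.A 𝔖.A0 z)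
  rw [← IsScalarTower.algebraMap_apply, ← IsScalarTower.algebraMap_apply, g.commutes]

theorem topR_comp : 𝔖.topR R0 ≫ f = 𝔖.botR R0 := by
  rw [topR, Category.assoc, 𝔖.comm, botR, ← Functor.map_comp_assoc]
  congr 2
  refine Over.OverMorphism.ext ?_
  show Spec.map _ ≫ Spec.map _ = Spec.map _
  rw [← Spec.map_comp, ← CommRingCat.ofHom_comp]
  congr 2
  exact (IsScalarTower.toAlgHom 𝔖.A 𝔖.A0 R0).comp_algebraMap

/-- A factorisation of the top arrow through the chart. -/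
def IsPiece (B0 : Type u) [CommRing B0] [Algebra 𝔖.A B0] [Algebra 𝔖.A0 B0]
    [IsScalarTower 𝔖.A 𝔖.A0 B0] (σ : 𝔖.obj B0 ⟶ 𝔖.U) : Prop :=
  (yon S).map σ ≫ 𝔖.a = 𝔖.topR B0

end Reduced

section Lift

/-- Spectra of surjections with nilpotent kernel are thickenings. -/
theorem isThickening_mapT {R R' : Type u} [CommRing R] [CommRing R'] [Algebra 𝔖.A R] [Algebra 𝔖.A R']
    (g : R →ₐ[𝔖.A] R') (hg : Function.Surjective g) (hnil : ∀ x, g x = 0 → IsNilpotent x) :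
    MoreMor.IsThickening (𝔖.mapT g).left := by
  refine ⟨IsClosedImmersion.spec_of_surjective (CommRingCat.ofHom g.toRingHom) hg,
    ⟨fun (p : PrimeSpectrum R) => ?_⟩⟩
  have hp : p ∈ PrimeSpectrum.zeroLocus (RingHom.ker g.toRingHom : Set R) := by
    rw [PrimeSpectrum.mem_zeroLocus]
    intro x hx
    obtain ⟨n, hn⟩ := hnil x hx
    exact p.2.mem_of_pow_mem n (hn ▸ zero_mem _)
  rw [← range_comap_of_surjective _ g.toRingHom hg] at hp
  exact hp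

variable {R R' : Type u} [CommRing R] [CommRing R'] [Algebra 𝔖.A R] [Algebra 𝔖.A R']

/-- The ring map of a morphism to the chart. -/
def ringOf (u : 𝔖.obj R ⟶ 𝔖.U) : 𝔖.C →+* R := (Spec.preimage u.left).hom

theorem specMap_ringOf (u : 𝔖.obj R ⟶ 𝔖.U) :
    Spec.map (CommRingCat.ofHom (𝔖.ringOf u)) = u.left := Spec.map_preimage _

theorem ringOf_mapT (g : R →ₐ[𝔖.A] R') (u : 𝔖.obj R ⟶ 𝔖.U) :
    𝔖.ringOf (𝔖.mapT g ≫ u) = g.toRingHom.comp (𝔖.ringOf u) := by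
  have h : Spec.map (CommRingCat.ofHom (𝔖.ringOf (𝔖.mapT g ≫ u))) =
      Spec.map (CommRingCat.ofHom (g.toRingHom.comp (𝔖.ringOf u))) := by
    rw [specMap_ringOf, CommRingCat.ofHom_comp, Spec.map_comp, specMap_ringOf]
    rfl
  exact congrArg CommRingCat.Hom.hom (Spec.map_injective h)

theorem ringOf_injective {u u' : 𝔖.obj R ⟶ 𝔖.U} (e : 𝔖.ringOf u = 𝔖.ringOf u') : u = u' :=
  Over.OverMorphism.ext (by rw [← specMap_ringOf, ← specMap_ringOf, e])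

theorem exists_of_ringHom (φ' : 𝔖.C →+* R)
    (hw : Spec.map (CommRingCat.ofHom (φ'.comp 𝔖.φ)) ≫ 𝔖.vS =
      Spec.map (CommRingCat.ofHom (algebraMap 𝔖.A R)) ≫ 𝔖.str) :
    ∃ u : 𝔖.obj R ⟶ 𝔖.U, 𝔖.ringOf u = φ' := by
  refine ⟨Over.homMk (Spec.map (CommRingCat.ofHom φ')) (by
    show Spec.map _ ≫ Spec.map _ ≫ 𝔖.vS = Spec.map _ ≫ 𝔖.str
    rw [← Category.assoc, ← Spec.map_comp, ← CommRingCat.ofHom_comp, hw]), ?_⟩
  exact congrArg CommRingCat.Hom.hom (Spec.preimage_map (CommRingCat.ofHom φ'))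

theorem ringOf_str (u : 𝔖.obj R ⟶ 𝔖.U) :
    Spec.map (CommRingCat.ofHom ((𝔖.ringOf u).comp 𝔖.φ)) ≫ 𝔖.vS =
      Spec.map (CommRingCat.ofHom (algebraMap 𝔖.A R)) ≫ 𝔖.str := by
  rw [CommRingCat.ofHom_comp, Spec.map_comp, specMap_ringOf, Category.assoc]
  exact Over.w u

/-- The lift to the chart along a thickening. -/
theorem existsUnique_chartLift (g : R →ₐ[𝔖.A] R') (hg : Function.Surjective g)
    (hnil : ∀ x, g x = 0 → IsNilpotent x) (σ : 𝔖.obj R' ⟶ 𝔖.U) (l : (yon S).obj (𝔖.obj R) ⟶ X)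
    (w : (yon S).map σ ≫ 𝔖.a = (yon S).map (𝔖.mapT g) ≫ l) :
    ∃! u : 𝔖.obj R ⟶ 𝔖.U, 𝔖.mapT g ≫ u = σ ∧ (yon S).map u ≫ 𝔖.a = l := by
  obtain ⟨L, ⟨hL₁, hL₂⟩, hu⟩ := Groth.L23.etale_thick_lift 𝔖.etale_a (𝔖.mapT g)
    (𝔖.isThickening_mapT g hg hnil) ((yon S).map σ) l w
  obtain ⟨u, rfl⟩ := (yon S).map_surjective L
  refine ⟨u, ⟨(yon S).map_injective (by rw [Functor.map_comp, hL₁]), hL₂⟩, fun u' hu' => ?_⟩
  exact (yon S).map_injective (hu _ ⟨by rw [← Functor.map_comp, hu'.1], hu'.2⟩)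

theorem ext_target (g : R →ₐ[𝔖.A] R') (hg : Function.Surjective g)
    (hnil : ∀ x, g x = 0 → IsNilpotent x) {v v' : 𝔖.obj R ⟶ 𝔖.V}
    (h₁ : 𝔖.mapT g ≫ v = 𝔖.mapT g ≫ v') (h₂ : (yon S).map v ≫ 𝔖.b = (yon S).map v' ≫ 𝔖.b) :
    v = v' := by
  obtain ⟨L, -, hu⟩ := Groth.L23.etale_thick_lift 𝔖.etale_b (𝔖.mapT g)
    (𝔖.isThickening_mapT g hg hnil) ((yon S).map (𝔖.mapT g ≫ v)) ((yon S).map v ≫ 𝔖.b)
    (by rw [Functor.map_comp, Category.assoc])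
  refine (yon S).map_injective ((hu _ ⟨by rw [← Functor.map_comp], rfl⟩).trans
    (hu _ ⟨by rw [← Functor.map_comp, h₁], h₂.symm⟩).symm)

theorem map_comp_f (u : 𝔖.obj R ⟶ 𝔖.U) :
    ((yon S).map u ≫ 𝔖.a) ≫ f = (yon S).map (u ≫ 𝔖.h) ≫ 𝔖.b := by
  rw [Category.assoc, 𝔖.chart, Functor.map_comp, Category.assoc]

end Lift

section Pt

variable (R0 : Type u) [CommRing R0] [Algebra 𝔖.A R0] (M : Type u) [AddCommGroup M] [Module R0 M]

instance instAlgebraTriv : Algebra 𝔖.A (Triv R0 M) :=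
  ((Triv.inl R0 M).comp (algebraMap 𝔖.A R0)).toAlgebra

/-- The projection as an algebra map. -/
def fstA : Triv R0 M →ₐ[𝔖.A] R0 := { Triv.fst R0 M with commutes' := fun _ => rfl }

/-- The trivial section as an algebra map. -/
def inlA : R0 →ₐ[𝔖.A] Triv R0 M := { Triv.inl R0 M with commutes' := fun _ => rfl }

theorem fstA_surjective : Function.Surjective (𝔖.fstA R0 M) := Triv.fst_surjective

theorem fstA_nil (x : Triv R0 M) (hx : 𝔖.fstA R0 M x = 0) : IsNilpotent x :=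
  Triv.isNilpotent_of_mem_ker x hx

variable [Algebra 𝔖.A0 R0] [IsScalarTower 𝔖.A 𝔖.A0 R0]

/-- Lifts of the top arrow to a trivial extension. -/
structure SPt where
  /-- The morphism. -/
  hom : (yon S).obj (𝔖.obj (Triv R0 M)) ⟶ X
  fst_hom : (yon S).map (𝔖.mapT (𝔖.fstA R0 M)) ≫ hom = 𝔖.topR R0
  hom_comp : hom ≫ f = 𝔖.botR (Triv R0 M)

variable {𝔖 R0 M}

theorem SPt.ext' {x y : 𝔖.SPt R0 M} (e : x.hom = y.hom) : x = y := by
  cases x; cases y; subst e; rfl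

/-- Derivations along a piece. -/
structure IsDer (σ : 𝔖.obj R0 ⟶ 𝔖.U) (δ : 𝔖.C →+ M) : Prop where
  leibniz : ∀ x y, δ (x * y) = 𝔖.ringOf σ x • δ y + 𝔖.ringOf σ y • δ x
  base : ∀ s, δ (𝔖.φ s) = 0

variable {σ : 𝔖.obj R0 ⟶ 𝔖.U} (hσ : 𝔖.IsPiece R0 σ)

include hσ in
theorem SPt.existsUnique_lift (x : 𝔖.SPt R0 M) : ∃! u : 𝔖.obj (Triv R0 M) ⟶ 𝔖.U,
    𝔖.mapT (𝔖.fstA R0 M) ≫ u = σ ∧ (yon S).map u ≫ 𝔖.a = x.hom :=
  𝔖.existsUnique_chartLift _ (𝔖.fstA_surjective R0 M) (𝔖.fstA_nil R0 M) σ x.hom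
    (hσ.trans x.fst_hom.symm)

/-- The lift to the chart of a point. -/
def SPt.lift (x : 𝔖.SPt R0 M) : 𝔖.obj (Triv R0 M) ⟶ 𝔖.U := (x.existsUnique_lift hσ).choose

theorem SPt.lift_fst (x : 𝔖.SPt R0 M) : 𝔖.mapT (𝔖.fstA R0 M) ≫ x.lift hσ = σ :=
  (x.existsUnique_lift hσ).choose_spec.1.1

theorem SPt.lift_a (x : 𝔖.SPt R0 M) : (yon S).map (x.lift hσ) ≫ 𝔖.a = x.hom :=
  (x.existsUnique_lift hσ).choose_spec.1.2

theorem SPt.lift_unique (x : 𝔖.SPt R0 M) (u : 𝔖.obj (Triv R0 M) ⟶ 𝔖.U)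
    (h₁ : 𝔖.mapT (𝔖.fstA R0 M) ≫ u = σ) (h₂ : (yon S).map u ≫ 𝔖.a = x.hom) : x.lift hσ = u :=
  ((x.existsUnique_lift hσ).choose_spec.2 u ⟨h₁, h₂⟩).symm

/-- The derivation of a point along a piece. -/
def SPt.der (x : 𝔖.SPt R0 M) : 𝔖.C →+ M :=
  (Triv.snd R0 M).comp (𝔖.ringOf (x.lift hσ)).toAddMonoidHom

theorem SPt.fst_ringOf (x : 𝔖.SPt R0 M) (c : 𝔖.C) :
    (𝔖.ringOf (x.lift hσ) c).1 = 𝔖.ringOf σ c := by
  have e := congrArg 𝔖.ringOf (x.lift_fst hσ)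
  rw [ringOf_mapT] at e
  exact RingHom.congr_fun e c

theorem SPt.isDer_der (x : 𝔖.SPt R0 M) : IsDer σ (x.der hσ) := by
  refine ⟨fun c c' => ?_, fun s => ?_⟩
  · show (𝔖.ringOf (x.lift hσ) (c * c')).2 = _
    rw [map_mul, Triv.mul_snd, x.fst_ringOf hσ, x.fst_ringOf hσ]
    rfl
  · have hinl : (𝔖.inlA R0 M).comp (𝔖.fstA R0 M) = (𝔖.inlA R0 M).comp (𝔖.fstA R0 M) := rfl
    have e : x.lift hσ ≫ 𝔖.h = 𝔖.mapT (𝔖.inlA R0 M) ≫ σ ≫ 𝔖.h := by
      refine 𝔖.ext_target _ (𝔖.fstA_surjective R0 M) (𝔖.fstA_nil R0 M) ?_ ?_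
      · rw [← Category.assoc, x.lift_fst hσ, ← Category.assoc, ← mapT_comp]
        have : (𝔖.fstA R0 M).comp (𝔖.inlA R0 M) = AlgHom.id 𝔖.A R0 := AlgHom.ext fun _ => rfl
        rw [this]
        refine (Category.id_comp _).symm.trans (congrArg (· ≫ _) ?_)
        exact Over.OverMorphism.ext (Spec.map_id _).symm
      · have e1 : (yon S).map σ ≫ 𝔖.a ≫ f = 𝔖.botR R0 := by
          rw [← Category.assoc, (show (yon S).map σ ≫ 𝔖.a = 𝔖.topR R0 from hσ), topR_comp]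
        have e2 : (yon S).map (σ ≫ 𝔖.h) ≫ 𝔖.b = 𝔖.botR R0 := by
          rw [← map_comp_f, Category.assoc, e1]
        rw [← map_comp_f, x.lift_a hσ, x.hom_comp, Functor.map_comp _ (𝔖.mapT _), Category.assoc, e2,
          map_botR]
    have e2 : Spec.map (CommRingCat.ofHom ((𝔖.ringOf (x.lift hσ)).comp 𝔖.φ)) =
        Spec.map (CommRingCat.ofHom (((Triv.inl R0 M).comp (𝔖.ringOf σ)).comp 𝔖.φ)) := by
      simp only [CommRingCat.ofHom_comp, Spec.map_comp, specMap_ringOf, Category.assoc]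
      exact congr($(e).left)
    exact congrArg (fun g => (g.hom s).2) (Spec.map_injective e2)

theorem SPt.ext_der {x y : 𝔖.SPt R0 M} (e : x.der hσ = y.der hσ) : x = y := by
  refine SPt.ext' ?_
  rw [← x.lift_a hσ, ← y.lift_a hσ]
  congr 2
  refine 𝔖.ringOf_injective (RingHom.ext fun c => Triv.ext ?_ (DFunLike.congr_fun e c))
  rw [x.fst_ringOf hσ, y.fst_ringOf hσ]

include hσ in
theorem exists_of_isDer {δ : 𝔖.C →+ M} (hδ : IsDer σ δ) :
    ∃ x : 𝔖.SPt R0 M, x.der hσ = δ := by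
  let L := Triv.lift (𝔖.ringOf σ) δ hδ.leibniz
  have hLφ : L.comp 𝔖.φ = (Triv.inl R0 M).comp ((𝔖.ringOf σ).comp 𝔖.φ) :=
    RingHom.ext fun s => Triv.ext rfl (hδ.base s)
  obtain ⟨u, hu⟩ := 𝔖.exists_of_ringHom L (by
    rw [hLφ, CommRingCat.ofHom_comp, Spec.map_comp, Category.assoc, ringOf_str, ← Category.assoc,
      ← Spec.map_comp, ← CommRingCat.ofHom_comp])
  have h1 : 𝔖.mapT (𝔖.fstA R0 M) ≫ u = σ := by
    refine 𝔖.ringOf_injective ?_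
    rw [ringOf_mapT, hu]
    rfl
  have e3 : u ≫ 𝔖.h = 𝔖.mapT (𝔖.inlA R0 M) ≫ σ ≫ 𝔖.h := by
    refine Over.OverMorphism.ext ?_
    show u.left ≫ Spec.map (CommRingCat.ofHom 𝔖.φ) =
      Spec.map (CommRingCat.ofHom (Triv.inl R0 M)) ≫ σ.left ≫ Spec.map (CommRingCat.ofHom 𝔖.φ)
    rw [← 𝔖.specMap_ringOf u, ← 𝔖.specMap_ringOf σ, hu]
    simp only [← Spec.map_comp, ← CommRingCat.ofHom_comp]
    exact congrArg (fun g => Spec.map (CommRingCat.ofHom g)) hLφ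
  let x : 𝔖.SPt R0 M :=
    ⟨(yon S).map u ≫ 𝔖.a,
      by rw [← Functor.map_comp_assoc, h1]; exact hσ,
      by
        rw [map_comp_f, e3, Functor.map_comp, Category.assoc, ← map_comp_f,
          (show (yon S).map σ ≫ 𝔖.a = 𝔖.topR R0 from hσ), topR_comp, map_botR]⟩
  refine ⟨x, AddMonoidHom.ext fun c => ?_⟩
  show (𝔖.ringOf (x.lift hσ) c).2 = δ c
  rw [x.lift_unique hσ u h1 rfl, hu]
  rfl

section Map

variable {R0' : Type u} [CommRing R0'] [Algebra 𝔖.A R0'] [Algebra 𝔖.A0 R0']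
  [IsScalarTower 𝔖.A 𝔖.A0 R0'] {M' : Type u} [AddCommGroup M'] [Module R0' M']
  (g : R0 →ₐ[𝔖.A] R0') (ψ : M →+ M') (hψ : ∀ (r : R0) (m : M), ψ (r • m) = g r • ψ m)

variable (𝔖) in
/-- The map of trivial extensions. -/
def trivMap : Triv R0 M →ₐ[𝔖.A] Triv R0' M' :=
  { Triv.map g.toRingHom ψ hψ with
    commutes' := fun r => Triv.ext (g.commutes r) (map_zero ψ) }

/-- Functoriality of points. -/
def SPt.map (x : 𝔖.SPt R0 M) : 𝔖.SPt R0' M' where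
  hom := (yon S).map (𝔖.mapT (trivMap 𝔖 g ψ hψ)) ≫ x.hom
  fst_hom := by
    rw [← Functor.map_comp_assoc, ← mapT_comp,
      show (𝔖.fstA R0' M').comp (trivMap 𝔖 g ψ hψ) = g.comp (𝔖.fstA R0 M) from rfl, mapT_comp,
      Functor.map_comp_assoc, x.fst_hom, map_topR]
  hom_comp := by rw [Category.assoc, x.hom_comp, map_botR]

include hσ in
theorem isPiece_map : 𝔖.IsPiece R0' (𝔖.mapT g ≫ σ) := by
  rw [IsPiece, Functor.map_comp, Category.assoc, (show (yon S).map σ ≫ 𝔖.a = 𝔖.topR R0 from hσ),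
    map_topR]

theorem SPt.der_map (x : 𝔖.SPt R0 M) :
    (x.map g ψ hψ).der (isPiece_map hσ g) = ψ.comp (x.der hσ) := by
  have e : (x.map g ψ hψ).lift (isPiece_map hσ g) = 𝔖.mapT (trivMap 𝔖 g ψ hψ) ≫ x.lift hσ := by
    refine SPt.lift_unique _ _ _ ?_ ?_
    · rw [← Category.assoc, ← mapT_comp,
        show (𝔖.fstA R0' M').comp (trivMap 𝔖 g ψ hψ) = g.comp (𝔖.fstA R0 M) from rfl, mapT_comp,
        Category.assoc, x.lift_fst hσ]
    · rw [Functor.map_comp, Category.assoc, x.lift_a hσ]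
      rfl
  refine AddMonoidHom.ext fun c => ?_
  show (𝔖.ringOf ((x.map g ψ hψ).lift (isPiece_map hσ g)) c).2 = _
  rw [e, ringOf_mapT]
  rfl

end Map

end Pt

end Setup

end Groth.L20.SpaceLocal
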