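import Groth.Agent.L20.SpaceLocal.SPt
import Groth.Agent.L20.SpaceLocal.Amitsur
import Groth.Agent.S0585
import Mathlib.RingTheory.Ideal.Quotient.Operations
import Mathlib.RingTheory.TensorProduct.Quotient
import Mathlib.RingTheory.Flat.FaithfullyFlat.Basic

/-!
# The descended module of derivations
-/

set_option autoImplicit false
set_option backward.isDefEq.respectTransparency.types false
set_option linter.style.haveILetI false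
set_option linter.unusedVariables false
set_option linter.unusedSectionVars false

universe u

open CategoryTheory CategoryTheory.Limits AlgebraicGeometry AlgSp Opposite TensorProduct
open Groth.L20.SmoothLocal (Triv)

noncomputable section

namespace Groth.L20.SpaceLocal

/-- The action of a tensor product of algebras on a tensor product of modules. -/
def tensorAct (A0 B Q N : Type u) [CommRing A0] [CommRing B] [Algebra A0 B] [CommRing Q] [Algebra A0 Q]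
    [AddCommGroup N] [Module A0 N] [Module Q N] [IsScalarTower A0 Q N] :
    B ⊗[A0] Q →ₐ[A0] Module.End A0 (B ⊗[A0] N) :=
  Algebra.TensorProduct.lift
    (AlgHom.ofLinearMap
      { toFun := fun b => LinearMap.rTensor N (LinearMap.mulLeft A0 b)
        map_add' := fun b b' => TensorProduct.ext' fun x n => by
          simp [add_mul, TensorProduct.add_tmul]
        map_smul' := fun c b => TensorProduct.ext' fun x n => by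
          simp [TensorProduct.smul_tmul'] }
      (TensorProduct.ext' fun x n => by simp)
      (fun b b' => TensorProduct.ext' fun x n => by simp [mul_assoc]))
    (AlgHom.ofLinearMap
      { toFun := fun q => LinearMap.lTensor B (Algebra.lsmul A0 A0 N q)
        map_add' := fun q q' => TensorProduct.ext' fun x n => by
          simp [add_smul, TensorProduct.tmul_add]
        map_smul' := fun c q => TensorProduct.ext' fun x n => by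
          simp [TensorProduct.tmul_smul] }
      (TensorProduct.ext' fun x n => by simp)
      (fun q q' => TensorProduct.ext' fun x n => by simp [mul_smul]))
    fun b q => TensorProduct.ext' fun x n => by simp

/-- The module structure of a tensor product over the tensor product of algebras. -/
@[reducible] def tensorModule (A0 B Q N : Type u) [CommRing A0] [CommRing B] [Algebra A0 B]
    [CommRing Q] [Algebra A0 Q] [AddCommGroup N] [Module A0 N] [Module Q N] [IsScalarTower A0 Q N] :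
    Module (B ⊗[A0] Q) (B ⊗[A0] N) :=
  Module.compHom _ (tensorAct A0 B Q N).toRingHom

theorem tensorAct_tmul (A0 B Q N : Type u) [CommRing A0] [CommRing B] [Algebra A0 B] [CommRing Q]
    [Algebra A0 Q] [AddCommGroup N] [Module A0 N] [Module Q N] [IsScalarTower A0 Q N]
    (b b' : B) (q : Q) (n : N) :
    tensorAct A0 B Q N (b ⊗ₜ[A0] q) (b' ⊗ₜ[A0] n) = (b * b') ⊗ₜ[A0] (q • n) := by
  simp [tensorAct]

variable {S : Scheme.{u}} {X Y : Sp S} {f : X ⟶ Y} (𝔖 : Setup f)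

/-- A faithfully flat piece over which the top arrow factors through the chart. -/
structure Cover where
  B : Type u
  [ringB : CommRing B]
  [algB : Algebra 𝔖.A B]
  [ff : Module.FaithfullyFlat 𝔖.A B]
  σ : 𝔖.obj (B ⧸ 𝔖.I.map (algebraMap 𝔖.A B)) ⟶ 𝔖.U
  hσ : 𝔖.IsPiece (B ⧸ 𝔖.I.map (algebraMap 𝔖.A B)) σ

attribute [instance] Cover.ringB Cover.algB Cover.ff

theorem commutes_quotient {A : Type u} [CommRing A] {I : Ideal A} {R R' : Type u} [CommRing R]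
    [Algebra A R] [Algebra (A ⧸ I) R] [IsScalarTower A (A ⧸ I) R] [CommRing R'] [Algebra A R']
    [Algebra (A ⧸ I) R'] [IsScalarTower A (A ⧸ I) R'] (g : R →ₐ[A] R') (z : A ⧸ I) :
    g (algebraMap (A ⧸ I) R z) = algebraMap (A ⧸ I) R' z := by
  obtain ⟨z, rfl⟩ := Ideal.Quotient.mk_surjective z
  show g (algebraMap (A ⧸ I) R (algebraMap A (A ⧸ I) z)) =
    algebraMap (A ⧸ I) R' (algebraMap A (A ⧸ I) z)
  rw [← IsScalarTower.algebraMap_apply, ← IsScalarTower.algebraMap_apply, g.commutes]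

theorem exists_universal {R0 : Type u} [CommRing R0] [Algebra 𝔖.A R0] (σ : 𝔖.obj R0 ⟶ 𝔖.U) :
    ∃ (P : Type u) (_ : AddCommGroup P) (_ : Module R0 P) (δ : 𝔖.C →+ P),
      Setup.IsDer σ δ ∧
      (∀ (M : Type u) [AddCommGroup M] [Module R0 M] (δ' : 𝔖.C →+ M), Setup.IsDer σ δ' →
        ∃! θ : P →ₗ[R0] M, ∀ x, θ (δ x) = δ' x) ∧
      ((letI := 𝔖.φ.toAlgebra; Algebra.FormallySmooth 𝔖.D 𝔖.C) → Module.Projective R0 P) := by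
  letI : Algebra 𝔖.D 𝔖.C := 𝔖.φ.toAlgebra
  letI : Algebra 𝔖.C R0 := (𝔖.ringOf σ).toAlgebra
  refine ⟨R0 ⊗[𝔖.C] Ω[𝔖.C⁄𝔖.D], inferInstance, inferInstance,
    ((TensorProduct.mk 𝔖.C R0 Ω[𝔖.C⁄𝔖.D] 1).toAddMonoidHom.comp
      (KaehlerDifferential.D 𝔖.D 𝔖.C).toLinearMap.toAddMonoidHom), ⟨?_, ?_⟩, ?_, ?_⟩
  · intro x y
    show (1 : R0) ⊗ₜ[𝔖.C] KaehlerDifferential.D 𝔖.D 𝔖.C (x * y) = _
    rw [Derivation.leibniz, TensorProduct.tmul_add, TensorProduct.tmul_smul,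
      TensorProduct.tmul_smul, ← algebraMap_smul R0 x, ← algebraMap_smul R0 y]
    rfl
  · intro s
    show (1 : R0) ⊗ₜ[𝔖.C] KaehlerDifferential.D 𝔖.D 𝔖.C (algebraMap 𝔖.D 𝔖.C s) = 0
    rw [Derivation.map_algebraMap, TensorProduct.tmul_zero]
  · intro M _ _ δ' hδ'
    letI : Module 𝔖.C M := Module.compHom M (𝔖.ringOf σ)
    letI : Module 𝔖.D M := Module.compHom M ((𝔖.ringOf σ).comp 𝔖.φ)
    haveI : IsScalarTower 𝔖.C R0 M :=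
      ⟨fun x r m => show (𝔖.ringOf σ x * r) • m = 𝔖.ringOf σ x • r • m from mul_smul _ _ _⟩
    haveI : IsScalarTower 𝔖.D 𝔖.C M := ⟨fun s x m => by
      show 𝔖.ringOf σ (𝔖.φ s * x) • m = 𝔖.ringOf σ (𝔖.φ s) • 𝔖.ringOf σ x • m
      rw [map_mul, mul_smul]⟩
    let L : 𝔖.C →ₗ[𝔖.D] M :=
      { toFun := δ'
        map_add' := map_add δ'
        map_smul' := fun s x => by
          show δ' (𝔖.φ s * x) = 𝔖.ringOf σ (𝔖.φ s) • δ' x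
          rw [hδ'.leibniz, hδ'.base, smul_zero, add_zero] }
    let D : Derivation 𝔖.D 𝔖.C M := Derivation.mk' L fun x y => hδ'.leibniz x y
    let θ : R0 ⊗[𝔖.C] Ω[𝔖.C⁄𝔖.D] →ₗ[R0] M := LinearMap.liftBaseChange R0 D.liftKaehlerDifferential
    have hθ : ∀ x, θ (1 ⊗ₜ KaehlerDifferential.D 𝔖.D 𝔖.C x) = δ' x := fun x => by
      simp only [θ, LinearMap.liftBaseChange_tmul, one_smul,
        Derivation.liftKaehlerDifferential_comp_D]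
      rfl
    refine ⟨θ, hθ, fun θ' hθ' => ?_⟩
    refine TensorProduct.AlgebraTensorModule.ext fun r w => ?_
    rw [← mul_one r, ← smul_eq_mul, ← TensorProduct.smul_tmul', map_smul, map_smul]
    congr 1
    have key : (θ'.restrictScalars 𝔖.C).comp (TensorProduct.mk 𝔖.C R0 _ 1) =
        (θ.restrictScalars 𝔖.C).comp (TensorProduct.mk 𝔖.C R0 _ 1) :=
      LinearMap.ext_on_range (KaehlerDifferential.span_range_derivation 𝔖.D 𝔖.C)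
        fun x => (hθ' x).trans (hθ x).symm
    exact LinearMap.congr_fun key w
  · intro hs
    haveI := hs
    infer_instance

variable {𝔖} (𝔅 : Cover 𝔖)

namespace Cover

/-- The reduced piece. -/
abbrev B0 : Type u := 𝔅.B ⧸ 𝔖.I.map (algebraMap 𝔖.A 𝔅.B)

instance faithfullyFlat_B0 : Module.FaithfullyFlat 𝔖.A0 𝔅.B0 := by
  haveI : Module.FaithfullyFlat 𝔖.A0 (𝔖.A0 ⊗[𝔖.A] 𝔅.B) := inferInstance
  let e₁ : 𝔅.B0 ≃ₐ[𝔖.A] 𝔅.B ⊗[𝔖.A] 𝔖.A0 :=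
    (Algebra.TensorProduct.quotIdealMapEquivTensorQuot 𝔅.B 𝔖.I).restrictScalars 𝔖.A
  let e₂ : 𝔅.B0 ≃ₐ[𝔖.A] 𝔖.A0 ⊗[𝔖.A] 𝔅.B :=
    e₁.trans (Algebra.TensorProduct.comm 𝔖.A 𝔅.B 𝔖.A0)
  exact Module.FaithfullyFlat.of_linearEquiv _ _
    { e₂.toLinearEquiv with
      map_smul' := fun z x => by
        show e₂ (z • x) = z • e₂ x
        rw [Algebra.smul_def]
        exact (map_mul e₂ _ _).trans ((congrArg (· * e₂ x)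
          (commutes_quotient e₂.toAlgHom z)).trans (Algebra.smul_def z (e₂ x)).symm) }

/-- The carrier of the universal module of the piece. -/
def N' : Type u := (exists_universal 𝔖 𝔅.σ).choose

instance : AddCommGroup 𝔅.N' := (exists_universal 𝔖 𝔅.σ).choose_spec.choose

instance : Module 𝔅.B0 𝔅.N' := (exists_universal 𝔖 𝔅.σ).choose_spec.choose_spec.choose

instance : Module 𝔖.A0 𝔅.N' := Module.compHom _ (algebraMap 𝔖.A0 𝔅.B0)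

instance : IsScalarTower 𝔖.A0 𝔅.B0 𝔅.N' := IsScalarTower.of_algebraMap_smul fun _ _ => rfl

/-- The universal derivation of the piece. -/
def δN : 𝔖.C →+ 𝔅.N' := (exists_universal 𝔖 𝔅.σ).choose_spec.choose_spec.choose_spec.choose

theorem δN_spec : Setup.IsDer 𝔅.σ 𝔅.δN ∧
    (∀ (M : Type u) [AddCommGroup M] [Module 𝔅.B0 M] (δ' : 𝔖.C →+ M), Setup.IsDer 𝔅.σ δ' →
      ∃! θ : 𝔅.N' →ₗ[𝔅.B0] M, ∀ x, θ (𝔅.δN x) = δ' x) ∧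
    ((letI := 𝔖.φ.toAlgebra; Algebra.FormallySmooth 𝔖.D 𝔖.C) → Module.Projective 𝔅.B0 𝔅.N') :=
  (exists_universal 𝔖 𝔅.σ).choose_spec.choose_spec.choose_spec.choose_spec

section Theta

variable {R0 : Type u} [CommRing R0] [Algebra 𝔖.A R0] [Algebra 𝔖.A0 R0]
  [IsScalarTower 𝔖.A 𝔖.A0 R0] {M : Type u} [AddCommGroup M] [Module R0 M] [Module 𝔖.A0 M]
  [IsScalarTower 𝔖.A0 R0 M]

theorem piece (q : 𝔅.B0 →ₐ[𝔖.A] R0) : 𝔖.IsPiece R0 (𝔖.mapT q ≫ 𝔅.σ) :=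
  Setup.isPiece_map 𝔅.hσ q

/-- Semilinearity along a map out of the piece. -/
def IsSemi (q : 𝔅.B0 →ₐ[𝔖.A] R0) (θ : 𝔅.N' →ₗ[𝔖.A0] M) : Prop :=
  ∀ (r : 𝔅.B0) (p : 𝔅.N'), θ (r • p) = q r • θ p

theorem existsUnique_theta (q : 𝔅.B0 →ₐ[𝔖.A] R0) (δ' : 𝔖.C →+ M)
    (hδ' : Setup.IsDer (𝔖.mapT q ≫ 𝔅.σ) δ') :
    ∃! θ : 𝔅.N' →ₗ[𝔖.A0] M, 𝔅.IsSemi q θ ∧ ∀ x, θ (𝔅.δN x) = δ' x := by
  letI : Module 𝔅.B0 M := Module.compHom M q.toRingHom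
  haveI : IsScalarTower 𝔖.A0 𝔅.B0 M := IsScalarTower.of_algebraMap_smul fun r m => by
    show q (algebraMap _ _ r) • m = r • m
    rw [commutes_quotient q, algebraMap_smul]
  have hd : Setup.IsDer 𝔅.σ δ' := ⟨fun x y => by
    show δ' (x * y) = q (𝔖.ringOf 𝔅.σ x) • δ' y + q (𝔖.ringOf 𝔅.σ y) • δ' x
    rw [hδ'.leibniz, Setup.ringOf_mapT]
    rfl, hδ'.base⟩
  obtain ⟨θ, hθ, hun⟩ := 𝔅.δN_spec.2.1 M δ' hd
  refine ⟨θ.restrictScalars 𝔖.A0, ⟨fun r p => θ.map_smul r p, hθ⟩, fun θ' hθ' => ?_⟩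
  have h := hun { toFun := θ', map_add' := map_add θ', map_smul' := hθ'.1 } hθ'.2
  exact LinearMap.ext fun x => LinearMap.congr_fun h x

/-- The linear map classifying a point along the piece. -/
def theta (q : 𝔅.B0 →ₐ[𝔖.A] R0) (x : 𝔖.SPt R0 M) : 𝔅.N' →ₗ[𝔖.A0] M :=
  (𝔅.existsUnique_theta q (x.der (𝔅.piece q)) (x.isDer_der _)).choose

theorem theta_semi (q : 𝔅.B0 →ₐ[𝔖.A] R0) (x : 𝔖.SPt R0 M) : 𝔅.IsSemi q (𝔅.theta q x) :=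
  (𝔅.existsUnique_theta q (x.der (𝔅.piece q)) (x.isDer_der _)).choose_spec.1.1

theorem theta_δN (q : 𝔅.B0 →ₐ[𝔖.A] R0) (x : 𝔖.SPt R0 M) (c : 𝔖.C) :
    𝔅.theta q x (𝔅.δN c) = x.der (𝔅.piece q) c :=
  (𝔅.existsUnique_theta q (x.der (𝔅.piece q)) (x.isDer_der _)).choose_spec.1.2 c

theorem theta_unique (q : 𝔅.B0 →ₐ[𝔖.A] R0) (x : 𝔖.SPt R0 M) (θ : 𝔅.N' →ₗ[𝔖.A0] M)
    (h₁ : 𝔅.IsSemi q θ) (h₂ : ∀ c, θ (𝔅.δN c) = x.der (𝔅.piece q) c) : 𝔅.theta q x = θ :=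
  ((𝔅.existsUnique_theta q (x.der (𝔅.piece q)) (x.isDer_der _)).choose_spec.2 θ ⟨h₁, h₂⟩).symm

theorem theta_congr {q q' : 𝔅.B0 →ₐ[𝔖.A] R0} (e : q = q') (x : 𝔖.SPt R0 M) :
    𝔅.theta q x = 𝔅.theta q' x := by subst e; rfl

theorem theta_inj (q : 𝔅.B0 →ₐ[𝔖.A] R0) {x y : 𝔖.SPt R0 M}
    (h : 𝔅.theta q x = 𝔅.theta q y) : x = y := by
  refine Setup.SPt.ext_der (𝔅.piece q) (AddMonoidHom.ext fun c => ?_)
  rw [← 𝔅.theta_δN q x, ← 𝔅.theta_δN q y, h]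

theorem exists_of_theta (q : 𝔅.B0 →ₐ[𝔖.A] R0) (θ : 𝔅.N' →ₗ[𝔖.A0] M) (h : 𝔅.IsSemi q θ) :
    ∃ x : 𝔖.SPt R0 M, 𝔅.theta q x = θ := by
  have hd : Setup.IsDer (𝔖.mapT q ≫ 𝔅.σ) (θ.toAddMonoidHom.comp 𝔅.δN) := by
    refine ⟨fun c c' => ?_, fun s => ?_⟩
    · show θ (𝔅.δN (c * c')) = _
      rw [𝔅.δN_spec.1.leibniz, map_add, h, h, Setup.ringOf_mapT]
      rfl
    · show θ (𝔅.δN (𝔖.φ s)) = 0
      rw [𝔅.δN_spec.1.base, map_zero]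
  obtain ⟨x, hx⟩ := Setup.exists_of_isDer (𝔅.piece q) hd
  exact ⟨x, 𝔅.theta_unique q x θ h fun c => (DFunLike.congr_fun hx c).symm⟩

variable {R0' : Type u} [CommRing R0'] [Algebra 𝔖.A R0'] [Algebra 𝔖.A0 R0']
  [IsScalarTower 𝔖.A 𝔖.A0 R0'] {M' : Type u} [AddCommGroup M'] [Module R0' M']
  [Module 𝔖.A0 M'] [IsScalarTower 𝔖.A0 R0' M']

theorem theta_map (q : 𝔅.B0 →ₐ[𝔖.A] R0) (x : 𝔖.SPt R0 M) (g : R0 →ₐ[𝔖.A] R0')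
    (ψ : M →ₗ[𝔖.A0] M') (hψ : ∀ (r : R0) (m : M), ψ (r • m) = g r • ψ m)
    (q' : 𝔅.B0 →ₐ[𝔖.A] R0') (hq : g.comp q = q') :
    𝔅.theta q' (x.map g ψ.toAddMonoidHom hψ) = ψ.comp (𝔅.theta q x) := by
  subst hq
  refine 𝔅.theta_unique _ _ _ (fun r p => ?_) fun c => ?_
  · show ψ (𝔅.theta q x (r • p)) = g (q r) • ψ (𝔅.theta q x p)
    rw [𝔅.theta_semi q x, hψ]
  · have key := DFunLike.congr_fun (x.der_map (𝔅.piece q) g ψ.toAddMonoidHom hψ) c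
    rw [LinearMap.comp_apply, theta_δN]
    refine key.symm.trans ?_
    congr 2
    exact (congrArg (· ≫ 𝔅.σ) (Setup.mapT_comp _ q g)).trans (Category.assoc _ _ _) |>.symm

end Theta

/-- The double overlap. -/
abbrev R2 : Type u := 𝔅.B0 ⊗[𝔖.A0] 𝔅.B0

/-- The first inclusion. -/
def q1 : 𝔅.B0 →ₐ[𝔖.A] 𝔅.R2 :=
  (Algebra.TensorProduct.includeLeft : 𝔅.B0 →ₐ[𝔖.A0] 𝔅.R2).restrictScalars 𝔖.A

/-- The second inclusion. -/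
def q2 : 𝔅.B0 →ₐ[𝔖.A] 𝔅.R2 :=
  (Algebra.TensorProduct.includeRight : 𝔅.B0 →ₐ[𝔖.A0] 𝔅.R2).restrictScalars 𝔖.A

/-- The module on the double overlap. -/
def N2 : Type u := 𝔅.R2 ⊗[𝔅.B0] 𝔅.N'

instance instAddCommGroupN2 : AddCommGroup 𝔅.N2 :=
  inferInstanceAs (AddCommGroup (𝔅.R2 ⊗[𝔅.B0] 𝔅.N'))

instance instModuleR2N2 : Module 𝔅.R2 𝔅.N2 :=
  inferInstanceAs (Module 𝔅.R2 (𝔅.R2 ⊗[𝔅.B0] 𝔅.N'))

instance instModuleA0N2 : Module 𝔖.A0 𝔅.N2 :=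
  inferInstanceAs (Module 𝔖.A0 (𝔅.R2 ⊗[𝔅.B0] 𝔅.N'))

instance instTowerN2 : IsScalarTower 𝔖.A0 𝔅.R2 𝔅.N2 :=
  inferInstanceAs (IsScalarTower 𝔖.A0 𝔅.R2 (𝔅.R2 ⊗[𝔅.B0] 𝔅.N'))

/-- The first restriction. -/
def r1 : 𝔅.N' →ₗ[𝔖.A0] 𝔅.N2 := (TensorProduct.mk 𝔅.B0 𝔅.R2 𝔅.N' 1).restrictScalars 𝔖.A0

theorem r1_semi : 𝔅.IsSemi 𝔅.q1 𝔅.r1 := fun r p => by
  show (1 : 𝔅.R2) ⊗ₜ[𝔅.B0] (r • p) = (𝔅.q1 r • ((1 : 𝔅.R2) ⊗ₜ[𝔅.B0] p) : 𝔅.R2 ⊗[𝔅.B0] 𝔅.N')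
  rw [TensorProduct.tmul_smul, ← algebraMap_smul 𝔅.R2 r]
  rfl

theorem N2_induction {motive : 𝔅.N2 → Prop} (h0 : motive 0)
    (h1 : ∀ (r : 𝔅.R2) (p : 𝔅.N'), motive (r • 𝔅.r1 p))
    (hadd : ∀ a b, motive a → motive b → motive (a + b)) (m : 𝔅.N2) : motive m := by
  refine TensorProduct.induction_on (motive := fun z : 𝔅.R2 ⊗[𝔅.B0] 𝔅.N' => motive z) m h0
    (fun r p => ?_) hadd
  have e : r ⊗ₜ[𝔅.B0] p = r • ((1 : 𝔅.R2) ⊗ₜ[𝔅.B0] p) := by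
    rw [TensorProduct.smul_tmul', smul_eq_mul, mul_one]
  rw [e]
  exact h1 r p

/-- The universal point on the double overlap. -/
def u2 : 𝔖.SPt 𝔅.R2 𝔅.N2 := (𝔅.exists_of_theta 𝔅.q1 𝔅.r1 𝔅.r1_semi).choose

theorem theta_q1 : 𝔅.theta 𝔅.q1 𝔅.u2 = 𝔅.r1 :=
  (𝔅.exists_of_theta 𝔅.q1 𝔅.r1 𝔅.r1_semi).choose_spec

/-- The second restriction. -/
def r2 : 𝔅.N' →ₗ[𝔖.A0] 𝔅.N2 := 𝔅.theta 𝔅.q2 𝔅.u2

section Compat

variable {R0 : Type u} [CommRing R0] [Algebra 𝔖.A R0] [Algebra 𝔖.A0 R0]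
  [IsScalarTower 𝔖.A 𝔖.A0 R0] {M : Type u} [AddCommGroup M] [Module R0 M] [Module 𝔖.A0 M]
  [IsScalarTower 𝔖.A0 R0 M]

/-- A map over the reduced base. -/
def over0 (q : 𝔅.B0 →ₐ[𝔖.A] R0) : 𝔅.B0 →ₐ[𝔖.A0] R0 :=
  { q with commutes' := commutes_quotient q }

theorem exists_psi (q q' : 𝔅.B0 →ₐ[𝔖.A] R0) (x : 𝔖.SPt R0 M) :
    ∃ (g : 𝔅.R2 →ₐ[𝔖.A] R0) (ψ : 𝔅.N2 →ₗ[𝔖.A0] M),
      (∀ (r : 𝔅.R2) (m : 𝔅.N2), ψ (r • m) = g r • ψ m) ∧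
      (∀ b c, g (b ⊗ₜ[𝔖.A0] c) = q b * q' c) ∧
      ψ.comp 𝔅.r1 = 𝔅.theta q x ∧ ψ.comp 𝔅.r2 = 𝔅.theta q' x := by
  let g0 : 𝔅.R2 →ₐ[𝔖.A0] R0 :=
    Algebra.TensorProduct.lift (𝔅.over0 q) (𝔅.over0 q') fun _ _ => Commute.all _ _
  let g : 𝔅.R2 →ₐ[𝔖.A] R0 := g0.restrictScalars 𝔖.A
  have hg : ∀ (b c : 𝔅.B0), g (b ⊗ₜ[𝔖.A0] c) = q b * q' c := fun b c => by
    show g0 (b ⊗ₜ[𝔖.A0] c) = 𝔅.over0 q b * 𝔅.over0 q' c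
    exact Algebra.TensorProduct.lift_tmul (𝔅.over0 q) (𝔅.over0 q') (fun _ _ => Commute.all _ _) b c
  letI : Module 𝔅.B0 M := Module.compHom M q.toRingHom
  letI : Module 𝔅.R2 M := Module.compHom M g.toRingHom
  haveI : IsScalarTower 𝔅.B0 𝔅.R2 M :=
    IsScalarTower.of_algebraMap_smul (R := 𝔅.B0) (A := 𝔅.R2) fun b m => by
      show g (b ⊗ₜ[𝔖.A0] (1 : 𝔅.B0)) • m = q b • m
      rw [hg, map_one, mul_one]
  let θ : 𝔅.N' →ₗ[𝔅.B0] M :=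
    { toFun := 𝔅.theta q x, map_add' := map_add _, map_smul' := 𝔅.theta_semi q x }
  let L : 𝔅.N2 →ₗ[𝔅.R2] M := LinearMap.liftBaseChange 𝔅.R2 θ
  let ψ : 𝔅.N2 →ₗ[𝔖.A0] M :=
    { toFun := L
      map_add' := map_add L
      map_smul' := fun z m => by
        rw [← algebraMap_smul 𝔅.R2 z m, L.map_smul, RingHom.id_apply]
        show g0 (algebraMap _ _ z) • L m = z • L m
        rw [g0.commutes, algebraMap_smul] }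
  have hψ : ∀ (r : 𝔅.R2) (m : 𝔅.N2), ψ (r • m) = g r • ψ m := fun r m => L.map_smul r m
  have h1 : ψ.comp 𝔅.r1 = 𝔅.theta q x := LinearMap.ext fun p => by
    show θ.liftBaseChange 𝔅.R2 ((1 : 𝔅.R2) ⊗ₜ[𝔅.B0] p) = _
    exact one_smul 𝔅.R2 (θ p)
  have hq1 : g.comp 𝔅.q1 = q := AlgHom.ext fun b => by
    show g (b ⊗ₜ[𝔖.A0] (1 : 𝔅.B0)) = q b
    rw [hg, map_one, mul_one]
  have hq2 : g.comp 𝔅.q2 = q' := AlgHom.ext fun b => by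
    show g ((1 : 𝔅.B0) ⊗ₜ[𝔖.A0] b) = q' b
    rw [hg, map_one, one_mul]
  refine ⟨g, ψ, hψ, hg, h1, ?_⟩
  have hx : 𝔅.u2.map g ψ.toAddMonoidHom hψ = x :=
    𝔅.theta_inj q (by rw [𝔅.theta_map 𝔅.q1 𝔅.u2 g ψ hψ q hq1, theta_q1, h1])
  rw [r2, ← 𝔅.theta_map 𝔅.q2 𝔅.u2 g ψ hψ q' hq2, hx]

end Compat

theorem r2_semi : 𝔅.IsSemi 𝔅.q2 𝔅.r2 := 𝔅.theta_semi _ _

theorem r1_injective : Function.Injective 𝔅.r1 := by
  obtain ⟨x, hx⟩ := 𝔅.exists_of_theta (AlgHom.id 𝔖.A 𝔅.B0) LinearMap.id fun r p => rfl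
  obtain ⟨g, ψ, -, -, h1, -⟩ := 𝔅.exists_psi (AlgHom.id 𝔖.A 𝔅.B0) (AlgHom.id 𝔖.A 𝔅.B0) x
  rw [hx] at h1
  exact Function.LeftInverse.injective (g := ψ) fun p => LinearMap.congr_fun h1 p

theorem extend2_bijective :
    Function.Bijective (extend2 (A := 𝔖.A0) (B := 𝔅.B0) 𝔅.r2) := by
  letI : Module 𝔅.R2 (𝔅.B0 ⊗[𝔖.A0] 𝔅.N') := tensorModule 𝔖.A0 𝔅.B0 𝔅.B0 𝔅.N'
  haveI : IsScalarTower 𝔖.A0 𝔅.R2 (𝔅.B0 ⊗[𝔖.A0] 𝔅.N') :=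
    IsScalarTower.of_algebraMap_smul (R := 𝔖.A0) (A := 𝔅.R2) fun z m => by
      show tensorAct 𝔖.A0 𝔅.B0 𝔅.B0 𝔅.N' (algebraMap _ _ z) m = z • m
      rw [AlgHom.commutes]
      rfl
  have hsm : ∀ (b b' c : 𝔅.B0) (p : 𝔅.N'),
      (b ⊗ₜ[𝔖.A0] c : 𝔅.R2) • (b' ⊗ₜ[𝔖.A0] p) = (b * b') ⊗ₜ[𝔖.A0] (c • p) :=
    fun b b' c p => tensorAct_tmul _ _ _ _ b b' c p
  let m2 : 𝔅.N' →ₗ[𝔖.A0] 𝔅.B0 ⊗[𝔖.A0] 𝔅.N' := TensorProduct.mk 𝔖.A0 𝔅.B0 𝔅.N' 1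
  have hm2 : 𝔅.IsSemi 𝔅.q2 m2 := fun r p => by
    show (1 : 𝔅.B0) ⊗ₜ[𝔖.A0] (r • p) = ((1 : 𝔅.B0) ⊗ₜ[𝔖.A0] r : 𝔅.R2) • (1 ⊗ₜ[𝔖.A0] p)
    rw [hsm, mul_one]
  obtain ⟨v, hv⟩ := 𝔅.exists_of_theta 𝔅.q2 m2 hm2
  obtain ⟨g, ψ, hψ, hg, h1, h2⟩ := 𝔅.exists_psi 𝔅.q1 𝔅.q2 v
  have hgid : g = AlgHom.id 𝔖.A 𝔅.R2 := AlgHom.ext fun z => by
    induction z using TensorProduct.induction_on with
    | zero => simp
    | add a c ha hc => simp only [map_add, ha, hc]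
    | tmul b c =>
      rw [hg]
      show (b ⊗ₜ[𝔖.A0] (1 : 𝔅.B0)) * ((1 : 𝔅.B0) ⊗ₜ[𝔖.A0] c) = b ⊗ₜ[𝔖.A0] c
      rw [Algebra.TensorProduct.tmul_mul_tmul, mul_one, one_mul]
  subst hgid
  let φ := extend2 (A := 𝔖.A0) (B := 𝔅.B0) 𝔅.r2
  have hφ : ∀ (r : 𝔅.R2) (m : 𝔅.B0 ⊗[𝔖.A0] 𝔅.N'), φ (r • m) = r • φ m := by
    intro r m
    induction m using TensorProduct.induction_on with
    | zero => simp
    | add a c ha hc => simp only [smul_add, map_add, ha, hc]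
    | tmul b' p =>
      induction r using TensorProduct.induction_on with
      | zero =>
        exact (congrArg φ (zero_smul 𝔅.R2 _)).trans
          ((map_zero φ).trans (zero_smul 𝔅.R2 (φ (b' ⊗ₜ[𝔖.A0] p))).symm)
      | add a c ha hc => simp only [add_smul, map_add, ha, hc]
      | tmul b c =>
        rw [hsm]
        show ((b * b') ⊗ₜ[𝔖.A0] (1 : 𝔅.B0) : 𝔅.R2) • 𝔅.r2 (c • p) =
          (b ⊗ₜ[𝔖.A0] c : 𝔅.R2) • ((b' ⊗ₜ[𝔖.A0] (1 : 𝔅.B0) : 𝔅.R2) • 𝔅.r2 p)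
        rw [𝔅.r2_semi, ← mul_smul, ← mul_smul]
        congr 1
        show ((b * b') ⊗ₜ[𝔖.A0] (1 : 𝔅.B0)) * ((1 : 𝔅.B0) ⊗ₜ[𝔖.A0] c) = _
        rw [Algebra.TensorProduct.tmul_mul_tmul, Algebra.TensorProduct.tmul_mul_tmul, mul_one,
          one_mul, mul_one]
  have hψφ : ∀ m, ψ (φ m) = m := by
    intro m
    induction m using TensorProduct.induction_on with
    | zero => simp
    | add a c ha hc => simp only [map_add, ha, hc]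
    | tmul b p =>
      show ψ ((b ⊗ₜ[𝔖.A0] (1 : 𝔅.B0) : 𝔅.R2) • 𝔅.r2 p) = _
      have h2' : ψ (𝔅.r2 p) = (1 : 𝔅.B0) ⊗ₜ[𝔖.A0] p := by
        rw [← LinearMap.comp_apply, h2, hv]
        rfl
      rw [hψ, h2', AlgHom.id_apply, hsm, mul_one, one_smul]
  have e : v.map (AlgHom.id 𝔖.A 𝔅.R2) φ.toAddMonoidHom hφ = 𝔅.u2 := by
    refine 𝔅.theta_inj 𝔅.q2 ?_
    rw [𝔅.theta_map 𝔅.q2 v _ φ hφ 𝔅.q2 (AlgHom.id_comp _), hv]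
    refine LinearMap.ext fun p => ?_
    show ((1 : 𝔅.B0) ⊗ₜ[𝔖.A0] (1 : 𝔅.B0) : 𝔅.R2) • 𝔅.r2 p = _
    rw [← Algebra.TensorProduct.one_def, one_smul]
    rfl
  have hφψ : ∀ m, φ (ψ m) = m := by
    intro m
    induction m using 𝔅.N2_induction with
    | h0 => rw [map_zero, map_zero]
    | hadd a c ha hc => rw [map_add, map_add, ha, hc]
    | h1 r p =>
      rw [hψ, AlgHom.id_apply, hφ, show ψ (𝔅.r1 p) = _ from LinearMap.congr_fun h1 p]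
      congr 1
      have := 𝔅.theta_map 𝔅.q1 v _ φ hφ 𝔅.q1 (AlgHom.id_comp _)
      rw [e, theta_q1] at this
      exact (LinearMap.congr_fun this p).symm
  exact ⟨Function.LeftInverse.injective (g := ψ) hψφ, Function.RightInverse.surjective hφψ⟩

set_option maxHeartbeats 1600000 in
theorem cocycle (p : 𝔅.N') (e : 𝔅.B0 ⊗[𝔖.A0] 𝔅.N')
    (he : extend2 (A := 𝔖.A0) (B := 𝔅.B0) 𝔅.r2 e = 𝔅.r1 p) :
    (𝔅.r1 - 𝔅.r2).lTensor 𝔅.B0 e = 0 := by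
  letI : Module (𝔅.B0 ⊗[𝔖.A0] 𝔅.R2) (𝔅.B0 ⊗[𝔖.A0] 𝔅.N2) :=
    tensorModule 𝔖.A0 𝔅.B0 𝔅.R2 𝔅.N2
  haveI : IsScalarTower 𝔖.A0 (𝔅.B0 ⊗[𝔖.A0] 𝔅.R2) (𝔅.B0 ⊗[𝔖.A0] 𝔅.N2) :=
    IsScalarTower.of_algebraMap_smul (R := 𝔖.A0) (A := 𝔅.B0 ⊗[𝔖.A0] 𝔅.R2) fun z m => by
      show tensorAct 𝔖.A0 𝔅.B0 𝔅.R2 𝔅.N2 (algebraMap _ _ z) m = z • m
      rw [AlgHom.commutes]
      rfl
  have hsm : ∀ (b b' : 𝔅.B0) (r : 𝔅.R2) (n : 𝔅.N2),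
      (b ⊗ₜ[𝔖.A0] r : 𝔅.B0 ⊗[𝔖.A0] 𝔅.R2) • (b' ⊗ₜ[𝔖.A0] n) = (b * b') ⊗ₜ[𝔖.A0] (r • n) :=
    fun b b' r n => tensorAct_tmul _ _ _ _ b b' r n
  let g23 : 𝔅.R2 →ₐ[𝔖.A] 𝔅.B0 ⊗[𝔖.A0] 𝔅.R2 :=
    (Algebra.TensorProduct.includeRight : 𝔅.R2 →ₐ[𝔖.A0] 𝔅.B0 ⊗[𝔖.A0] 𝔅.R2).restrictScalars 𝔖.A
  let m23 : 𝔅.N2 →ₗ[𝔖.A0] 𝔅.B0 ⊗[𝔖.A0] 𝔅.N2 := TensorProduct.mk 𝔖.A0 𝔅.B0 𝔅.N2 1
  have hm : ∀ (r : 𝔅.R2) (m : 𝔅.N2), m23 (r • m) = g23 r • m23 m := fun r m => by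
    show (1 : 𝔅.B0) ⊗ₜ[𝔖.A0] (r • m) =
      ((1 : 𝔅.B0) ⊗ₜ[𝔖.A0] r : 𝔅.B0 ⊗[𝔖.A0] 𝔅.R2) • (1 ⊗ₜ[𝔖.A0] m)
    rw [hsm, mul_one]
  let u3 : 𝔖.SPt (𝔅.B0 ⊗[𝔖.A0] 𝔅.R2) (𝔅.B0 ⊗[𝔖.A0] 𝔅.N2) :=
    𝔅.u2.map g23 (ψ := m23.toAddMonoidHom) (hψ := hm)
  let s1 : 𝔅.B0 →ₐ[𝔖.A] 𝔅.B0 ⊗[𝔖.A0] 𝔅.R2 :=
    (Algebra.TensorProduct.includeLeft : 𝔅.B0 →ₐ[𝔖.A0] 𝔅.B0 ⊗[𝔖.A0] 𝔅.R2).restrictScalars 𝔖.A
  have key : ∀ (q : 𝔅.B0 →ₐ[𝔖.A] 𝔅.R2) (r : 𝔅.N' →ₗ[𝔖.A0] 𝔅.N2), 𝔅.theta q 𝔅.u2 = r →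
      r.lTensor 𝔅.B0 e = 𝔅.theta s1 u3 p := by
    intro q r hr
    have hθ : 𝔅.theta (g23.comp q) u3 = m23.comp r := by
      exact (𝔅.theta_map (R0' := 𝔅.B0 ⊗[𝔖.A0] 𝔅.R2) (M' := 𝔅.B0 ⊗[𝔖.A0] 𝔅.N2) q 𝔅.u2 g23 m23 hm
        (g23.comp q) (by rfl)).trans
        (congrArg m23.comp hr)
    obtain ⟨g, ψ, hψ, hg, h1, h2⟩ := 𝔅.exists_psi s1 (g23.comp q) u3
    rw [hθ] at h2
    rw [← h1, LinearMap.comp_apply, ← he]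
    clear he
    induction e using TensorProduct.induction_on with
    | zero => simp
    | add a c ha hc => simp only [map_add, ha, hc]
    | tmul b p' =>
      show b ⊗ₜ[𝔖.A0] r p' = ψ ((b ⊗ₜ[𝔖.A0] (1 : 𝔅.B0) : 𝔅.R2) • 𝔅.r2 p')
      have h3 : ψ (𝔅.r2 p') = (1 : 𝔅.B0) ⊗ₜ[𝔖.A0] r p' := LinearMap.congr_fun h2 p'
      have hb : s1 b * (g23.comp q) 1 = (b ⊗ₜ[𝔖.A0] (1 : 𝔅.R2) : 𝔅.B0 ⊗[𝔖.A0] 𝔅.R2) := by
        show (b ⊗ₜ[𝔖.A0] (1 : 𝔅.R2)) * ((1 : 𝔅.B0) ⊗ₜ[𝔖.A0] q 1) = _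
        rw [map_one q, Algebra.TensorProduct.tmul_mul_tmul, mul_one, one_mul]
      rw [hψ, h3, hg]
      refine Eq.trans ?_ (congrArg (· • ((1 : 𝔅.B0) ⊗ₜ[𝔖.A0] r p')) hb.symm)
      rw [hsm, mul_one, one_smul]
  rw [LinearMap.lTensor_sub, LinearMap.sub_apply, key 𝔅.q1 𝔅.r1 𝔅.theta_q1,
    key 𝔅.q2 𝔅.r2 rfl, sub_self]

/-- The descended module of derivations. -/
abbrev P : Submodule 𝔖.A0 𝔅.N' := descended 𝔅.r1 𝔅.r2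

theorem comparison_bij :
    Function.Bijective (comparison (A := 𝔖.A0) (B := 𝔅.B0) 𝔅.r1 𝔅.r2) :=
  comparison_bijective 𝔅.r1 𝔅.r2 (fun b p => 𝔅.r1_semi b p) 𝔅.r1_injective 𝔅.extend2_bijective
    𝔅.cocycle

theorem projective_P (h : letI := 𝔖.φ.toAlgebra; Algebra.FormallySmooth 𝔖.D 𝔖.C) :
    Module.Projective 𝔖.A0 𝔅.P := by
  haveI : Module.Projective 𝔅.B0 𝔅.N' := 𝔅.δN_spec.2.2 h
  haveI : Module.Projective 𝔅.B0 (𝔅.B0 ⊗[𝔖.A0] 𝔅.P) :=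
    Module.Projective.of_equiv (LinearEquiv.ofBijective _ 𝔅.comparison_bij).symm
  exact Groth.Agent.S0585.result 𝔖.A0 𝔅.B0 𝔅.P

section Cls

variable {R0 : Type u} [CommRing R0] [Algebra 𝔖.A R0] [Algebra 𝔖.A0 R0]
  [IsScalarTower 𝔖.A 𝔖.A0 R0] {M : Type u} [AddCommGroup M] [Module R0 M] [Module 𝔖.A0 M]
  [IsScalarTower 𝔖.A0 R0 M]

/-- The class of a point. -/
def cls (q : 𝔅.B0 →ₐ[𝔖.A] R0) (x : 𝔖.SPt R0 M) : 𝔅.P →ₗ[𝔖.A0] M :=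
  (𝔅.theta q x).comp 𝔅.P.subtype

theorem cls_indep (q q' : 𝔅.B0 →ₐ[𝔖.A] R0) (x : 𝔖.SPt R0 M) : 𝔅.cls q x = 𝔅.cls q' x := by
  obtain ⟨g, ψ, -, -, h1, h2⟩ := 𝔅.exists_psi q q' x
  refine LinearMap.ext fun p => ?_
  rw [cls, cls, ← h1, ← h2]
  exact congrArg ψ (r_eq 𝔅.r1 𝔅.r2 p)

theorem cls_map {R0' : Type u} [CommRing R0'] [Algebra 𝔖.A R0'] [Algebra 𝔖.A0 R0']
    [IsScalarTower 𝔖.A 𝔖.A0 R0'] {M' : Type u} [AddCommGroup M'] [Module R0' M']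
    [Module 𝔖.A0 M'] [IsScalarTower 𝔖.A0 R0' M'] (q : 𝔅.B0 →ₐ[𝔖.A] R0) (x : 𝔖.SPt R0 M)
    (g : R0 →ₐ[𝔖.A] R0') (ψ : M →ₗ[𝔖.A0] M') (hψ : ∀ (r : R0) (m : M), ψ (r • m) = g r • ψ m)
    (q' : 𝔅.B0 →ₐ[𝔖.A] R0') :
    𝔅.cls q' (x.map g ψ.toAddMonoidHom hψ) = ψ.comp (𝔅.cls q x) := by
  rw [𝔅.cls_indep q' (g.comp q), cls, cls, 𝔅.theta_map q x g ψ hψ (g.comp q) rfl,
    LinearMap.comp_assoc]

theorem theta_ext (q : 𝔅.B0 →ₐ[𝔖.A] R0) {θ θ' : 𝔅.N' →ₗ[𝔖.A0] M} (h : 𝔅.IsSemi q θ)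
    (h' : 𝔅.IsSemi q θ') (e : θ.comp 𝔅.P.subtype = θ'.comp 𝔅.P.subtype) : θ = θ' := by
  refine LinearMap.ext fun n => ?_
  obtain ⟨z, rfl⟩ := 𝔅.comparison_bij.2 n
  induction z using TensorProduct.induction_on with
  | zero => simp
  | add a c ha hc => simp only [map_add, ha, hc]
  | tmul b p =>
    rw [comparison, LinearMap.liftBaseChange_tmul, h, h']
    exact congrArg _ (LinearMap.congr_fun e p)

theorem cls_inj (q : 𝔅.B0 →ₐ[𝔖.A] R0) {x y : 𝔖.SPt R0 M} (h : 𝔅.cls q x = 𝔅.cls q y) : x = y :=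
  𝔅.theta_inj q (𝔅.theta_ext q (𝔅.theta_semi q x) (𝔅.theta_semi q y) h)

theorem cls_surj (q : 𝔅.B0 →ₐ[𝔖.A] R0) (ϑ : 𝔅.P →ₗ[𝔖.A0] M) :
    ∃ x : 𝔖.SPt R0 M, 𝔅.cls q x = ϑ := by
  letI : Module 𝔅.B0 M := Module.compHom M q.toRingHom
  haveI : IsScalarTower 𝔖.A0 𝔅.B0 M := IsScalarTower.of_algebraMap_smul fun r m => by
    show q (algebraMap _ _ r) • m = r • m
    rw [commutes_quotient q, algebraMap_smul]
  let e := LinearEquiv.ofBijective _ 𝔅.comparison_bij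
  let θ : 𝔅.N' →ₗ[𝔅.B0] M := (LinearMap.liftBaseChange 𝔅.B0 ϑ).comp e.symm.toLinearMap
  obtain ⟨x, hx⟩ := 𝔅.exists_of_theta q (θ.restrictScalars 𝔖.A0) fun r p => θ.map_smul r p
  refine ⟨x, LinearMap.ext fun p => ?_⟩
  rw [cls, hx]
  show (LinearMap.liftBaseChange 𝔅.B0 ϑ) (e.symm p.1) = ϑ p
  have hp : e ((1 : 𝔅.B0) ⊗ₜ[𝔖.A0] p) = p.1 := by
    show comparison (A := 𝔖.A0) (B := 𝔅.B0) 𝔅.r1 𝔅.r2 _ = _
    rw [comparison, LinearMap.liftBaseChange_tmul, one_smul]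
    rfl
  rw [← hp, e.symm_apply_apply, LinearMap.liftBaseChange_tmul, one_smul]

theorem cls_add (q : 𝔅.B0 →ₐ[𝔖.A] R0) {x x' x'' : 𝔖.SPt R0 M}
    (h : x''.der (𝔅.piece q) = x.der (𝔅.piece q) + x'.der (𝔅.piece q)) :
    𝔅.cls q x'' = 𝔅.cls q x + 𝔅.cls q x' := by
  rw [cls, cls, cls, ← LinearMap.add_comp, 𝔅.theta_unique q x'' (𝔅.theta q x + 𝔅.theta q x')
    (fun r p => by simp [𝔅.theta_semi q x r p, 𝔅.theta_semi q x' r p, smul_add])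
    (fun c => by rw [LinearMap.add_apply, theta_δN, theta_δN, h]; rfl)]

theorem cls_eq_zero_iff (q : 𝔅.B0 →ₐ[𝔖.A] R0) {x : 𝔖.SPt R0 M} :
    𝔅.cls q x = 0 ↔ x.der (𝔅.piece q) = 0 := by
  refine ⟨fun h => ?_, fun h => ?_⟩
  · have := 𝔅.theta_ext q (θ' := 0) (𝔅.theta_semi q x) (fun r p => by simp)
      (h.trans (LinearMap.zero_comp _).symm)
    refine AddMonoidHom.ext fun c => ?_
    rw [← 𝔅.theta_δN q x, this]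
    rfl
  · rw [cls, 𝔅.theta_unique q x 0 (fun r p => by simp) (fun c => by rw [h]; rfl),
      LinearMap.zero_comp]

end Cls

end Cover

end Groth.L20.SpaceLocal
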